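import Cfsg.Agent.Lib.U62Core.Weak

/-!
# Strong closure modulo a central part, and the dihedral argument
-/

set_option autoImplicit false
set_option linter.unusedSectionVars false
set_option linter.style.haveILetI false

namespace Cfsg.Lib.U62Core

open Cfsg.Lib.U62Type

variable {X : Type*} [Group X]

/-- The hypothesis of the descending induction at `B`. -/
structure Step (A I H : Subgroup X) (vc κ : X → ℕ) (B : Subgroup X) : Prop extends UMod A I H vc κ where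
  B_le : B ≤ A
  above : ∀ B' : Subgroup X, B < B' → B' ≤ A → Subgroup.centralizer (B' : Set X) ≤ H

/-- In any group two involutions are conjugate or commute with an involution that is moved to a conjugate of one
of them by the first. -/
theorem dihedral_cases {Q : Type*} [Group Q] [Finite Q] {u v : Q} (hu : u * u = 1) (hv : v * v = 1) :
    (∃ w : Q, w * v * w⁻¹ = u) ∨
      ∃ c : Q, c ≠ 1 ∧ Commute u c ∧ Commute v c ∧
        ((∃ w : Q, w * u * w⁻¹ = u * c) ∨ ∃ w : Q, w * v * w⁻¹ = u * c) := by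
  set t := u * v with ht
  have hu' : u⁻¹ = u := inv_eq_of_mul_eq_one_right hu
  have hv' : v⁻¹ = v := inv_eq_of_mul_eq_one_right hv
  have hut : u * t = v := by rw [ht, ← mul_assoc, hu, one_mul]
  have hinv : u * t * u⁻¹ = t⁻¹ := by rw [hut, hu', ht, mul_inv_rev, hu', hv']
  have hinv' : ∀ j : ℕ, u * t ^ j * u⁻¹ = (t⁻¹) ^ j := fun j => by rw [← conj_pow, hinv]
  have hmove : ∀ j : ℕ, (t⁻¹) ^ j * u = u * t ^ j := fun j => by
    rw [← hinv' j, inv_mul_cancel_right]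
  rcases Nat.even_or_odd' (orderOf t) with ⟨m, hm | hm⟩
  · refine Or.inr ⟨t ^ m, fun h => ?_, ?_, ?_, ?_⟩
    · have h1 := Nat.le_of_dvd ?_ (orderOf_dvd_of_pow_eq_one h)
      · have := orderOf_pos t; omega
      · have := orderOf_pos t; omega
    · have hc2 : (t⁻¹) ^ m = t ^ m := by
        rw [inv_pow, inv_eq_iff_mul_eq_one, ← pow_add, show m + m = orderOf t by omega, pow_orderOf_eq_one]
      show u * t ^ m = t ^ m * u
      rw [← hmove, hc2]
    · have hc2 : (t⁻¹) ^ m = t ^ m := by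
        rw [inv_pow, inv_eq_iff_mul_eq_one, ← pow_add, show m + m = orderOf t by omega, pow_orderOf_eq_one]
      have h1 : Commute u (t ^ m) := by
        show u * t ^ m = t ^ m * u
        rw [← hmove, hc2]
      rw [← hut]
      exact h1.mul_left ((Commute.refl t).pow_right m)
    · have key : ∀ j : ℕ, (t⁻¹) ^ j * u * ((t⁻¹) ^ j)⁻¹ = u * t ^ (2 * j) := fun j => by
        rw [hmove, inv_pow, inv_inv, mul_assoc, ← pow_add, two_mul]
      rcases Nat.even_or_odd' m with ⟨j, hj | hj⟩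
      · exact Or.inl ⟨(t⁻¹) ^ j, by rw [key, hj]⟩
      · refine Or.inr ⟨(t⁻¹) ^ j, ?_⟩
        rw [hj, pow_succ, ← mul_assoc, ← key]
        have hcomm : Commute t (((t⁻¹) ^ j)⁻¹) := by
          rw [inv_pow, inv_inv]; exact (Commute.refl t).pow_right j
        calc (t⁻¹) ^ j * v * ((t⁻¹) ^ j)⁻¹ = (t⁻¹) ^ j * u * (t * ((t⁻¹) ^ j)⁻¹) := by rw [← hut]; group
          _ = (t⁻¹) ^ j * u * (((t⁻¹) ^ j)⁻¹ * t) := by rw [hcomm.eq]
          _ = (t⁻¹) ^ j * u * ((t⁻¹) ^ j)⁻¹ * t := by group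
  · refine Or.inl ⟨t ^ (m + 1), ?_⟩
    have hvt : v * (t ^ (m + 1))⁻¹ = t ^ (m + 1) * v := by
      have h1 : v * t * v⁻¹ = t⁻¹ := by
        rw [ht, mul_inv_rev, hu', hv', show v * (u * v) * v = v * u * (v * v) by group, hv, mul_one]
      have h2 : v * t ^ (m + 1) * v⁻¹ = (t⁻¹) ^ (m + 1) := by rw [← conj_pow, h1]
      rw [← inv_pow, ← h2, hv', show v * (v * t ^ (m + 1) * v) = (v * v) * (t ^ (m + 1) * v) by group,
        hv, one_mul]
    rw [mul_assoc, hvt, ← mul_assoc, ← pow_add, show m + 1 + (m + 1) = orderOf t + 1 by omega,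
      pow_succ, pow_orderOf_eq_one, one_mul, ht, mul_assoc, hv, mul_one]

namespace Step

variable [Finite X] {A I H B : Subgroup X} {vc κ : X → ℕ} (t : Step A I H vc κ B)
include t

theorem A_le_cent : A ≤ Subgroup.centralizer (B : Set X) := fun a ha =>
  Subgroup.mem_centralizer_iff.2 fun b hb => t.comm b (t.B_le hb) a ha

theorem B_le_cent : B ≤ Subgroup.centralizer (B : Set X) := t.B_le.trans t.A_le_cent

/-- Elements that centralise `B` and an element of `A ∖ B` lie in the normalizer. -/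
theorem mem_of_commute_one {g a : X} (hg : g ∈ Subgroup.centralizer (B : Set X)) (ha : a ∈ A)
    (haB : a ∉ B) (hga : g * a = a * g) : g ∈ H := by
  refine t.above (B ⊔ Subgroup.zpowers a) (left_lt_sup.2 fun h => haB (h (Subgroup.mem_zpowers a)))
    (sup_le t.B_le (Subgroup.zpowers_le.2 ha)) ?_
  rw [Subgroup.mem_centralizer_iff]
  intro b hb
  have hle : B ⊔ Subgroup.zpowers a ≤ Subgroup.centralizer ({g} : Set X) :=
    sup_le (fun b hb => Subgroup.mem_centralizer_singleton_iff.2 (Subgroup.mem_centralizer_iff.1 hg b hb))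
      (Subgroup.zpowers_le.2 (Subgroup.mem_centralizer_singleton_iff.2 hga.symm))
  exact Subgroup.mem_centralizer_singleton_iff.1 (hle hb)

/-- An element moving an element of `A ∖ B` to one modulo `B` lies in the normalizer. -/
theorem mem_of_conj {x a b : X} (hx : x ∈ Subgroup.centralizer (B : Set X)) (ha : a ∈ A) (hb : b ∈ A)
    (hbB : b ∉ B) (h : (x * a * x⁻¹) * b⁻¹ ∈ B) : x ∈ H := by
  refine t.toUMod.mem_of_map_le ?_
  rintro _ ⟨z, hz, rfl⟩
  show x * z * x⁻¹ ∈ H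
  have hc : x * z * x⁻¹ ∈ Subgroup.centralizer (B : Set X) :=
    mul_mem (mul_mem hx (t.A_le_cent hz)) (inv_mem hx)
  refine t.mem_of_commute_one hc hb hbB ?_
  have e : b = ((x * a * x⁻¹) * b⁻¹)⁻¹ * (x * a * x⁻¹) := by group
  have h1 : Commute (x * z * x⁻¹) (x * a * x⁻¹) :=
    Commute.map (show Commute z a from t.comm z hz a ha) (MulAut.conj x).toMonoidHom
  have h2 : Commute (x * z * x⁻¹) ((x * a * x⁻¹) * b⁻¹) :=
    (Subgroup.mem_centralizer_iff.1 hc _ h).symm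
  show Commute (x * z * x⁻¹) b
  rw [e]
  exact h2.inv_right.mul_right h1

/-- The part of `A` moved by `h` into `B`. -/
theorem exists_fix_mod {g a : X} (hg : g ∈ Subgroup.centralizer (B : Set X)) (ha : a ∈ A) (haB : a ∉ B)
    (hh : g * a * g⁻¹ ∈ H) :
    ∃ P : Subgroup X, P ≤ A ⊓ H.map (MulAut.conj g).toMonoidHom ∧
      A ⊓ Subgroup.centralizer ({g * a * g⁻¹} : Set X) ≤ P ∧
      256 * Nat.card B ≤ Nat.card P * Nat.card ↥(A ⊓ Subgroup.centralizer ({g * a * g⁻¹} : Set X)) ∧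
      ∀ z ∈ A, z * (g * a * g⁻¹ * z * (g * a * g⁻¹)⁻¹) ∈ B → z * (g * a * g⁻¹ * z * (g * a * g⁻¹)⁻¹) ≠ 1 →
        2 * Nat.card ↥(A ⊓ Subgroup.centralizer ({g * a * g⁻¹} : Set X)) ≤ Nat.card P := by
  set y := g * a * g⁻¹ with hy
  have hyy : y * y = 1 := by
    rw [hy, show g * a * g⁻¹ * (g * a * g⁻¹) = g * (a * a) * g⁻¹ by group, t.invol a ha, mul_one,
      mul_inv_cancel]
  have hyA : ∀ z ∈ A, y * z * y⁻¹ ∈ A := fun z hz => t.toUMod.normal hh hz
  have hyC : y ∈ Subgroup.centralizer (B : Set X) := mul_mem (mul_mem hg (t.A_le_cent ha)) (inv_mem hg)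
  let ψ : ↥A →* ↥A :=
    { toFun := fun z => ⟨(z : X) * (y * z * y⁻¹), mul_mem z.2 (hyA _ z.2)⟩
      map_one' := Subtype.ext (by simp)
      map_mul' := by
        rintro ⟨u, hu⟩ ⟨v, hv⟩
        refine Subtype.ext ?_
        show u * v * (y * (u * v) * y⁻¹) = u * (y * u * y⁻¹) * (v * (y * v * y⁻¹))
        rw [show y * (u * v) * y⁻¹ = (y * u * y⁻¹) * (y * v * y⁻¹) by group]
        calc u * v * ((y * u * y⁻¹) * (y * v * y⁻¹)) = u * (v * (y * u * y⁻¹)) * (y * v * y⁻¹) := by group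
          _ = u * ((y * u * y⁻¹) * v) * (y * v * y⁻¹) := by rw [t.comm v hv _ (hyA u hu)]
          _ = _ := by group }
  let B' := B.subgroupOf A
  let P' : Subgroup ↥A := B'.comap ψ
  have hker : ∀ z : A, z ∈ ψ.ker ↔ Commute y z := by
    intro z
    rw [MonoidHom.mem_ker, Subtype.ext_iff]
    show (z : X) * (y * z * y⁻¹) = 1 ↔ _
    constructor
    · intro h
      have h1 := eq_inv_of_mul_eq_one_right h
      rw [t.toUMod.inv_eq z.2] at h1
      exact mul_inv_eq_iff_eq_mul.1 h1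
    · intro h
      rw [h.eq, mul_inv_cancel_right, t.invol _ z.2]
  have hkercard : Nat.card ψ.ker = Nat.card ↥(A ⊓ Subgroup.centralizer ({y} : Set X)) :=
    Nat.card_congr ⟨fun z => ⟨z.1.1, z.1.2, Subgroup.mem_centralizer_singleton_iff.2 ((hker z.1).1 z.2).eq.symm⟩,
      fun z => ⟨⟨z.1, z.2.1⟩, (hker _).2 (Subgroup.mem_centralizer_singleton_iff.1 z.2.2).symm⟩,
      fun _ => rfl, fun _ => rfl⟩
  have hBker : B' ≤ ψ.ker := fun z hz =>
    (hker z).2 (Subgroup.mem_centralizer_iff.1 hyC (z : X) (Subgroup.mem_subgroupOf.1 hz)).symm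
  have hrange : ψ.range ≤ ψ.ker := by
    rintro _ ⟨z, rfl⟩
    refine (hker _).2 ?_
    show y * ((z : X) * (y * z * y⁻¹)) = (z : X) * (y * z * y⁻¹) * y
    have h1 := t.comm _ z.2 _ (hyA _ z.2)
    calc y * ((z : X) * (y * z * y⁻¹)) = (y * z * y⁻¹) * (y * y) * z * y⁻¹ := by group
      _ = (y * z * y⁻¹) * z * y⁻¹ := by rw [hyy, mul_one]
      _ = (z : X) * (y * z * y⁻¹) * y := by rw [← h1, inv_eq_of_mul_eq_one_right hyy]
  have hB'card : Nat.card B' = Nat.card B := Nat.card_congr (Subgroup.subgroupOfEquivOfLe t.B_le).toEquiv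
  have hP'card : Nat.card (P'.map A.subtype) = Nat.card P' :=
    (Nat.card_congr (P'.equivMapOfInjective A.subtype A.subtype_injective).toEquiv).symm
  have hkP : ψ.ker ≤ P' := fun z hz => by
    show ψ z ∈ B'
    rw [MonoidHom.mem_ker.1 hz]; exact one_mem _
  have h1 : Nat.card ψ.ker * Nat.card ↥(ψ.range ⊓ B') = Nat.card P' := by
    rw [← Subgroup.map_comap_eq, ← Subgroup.relIndex_ker]
    have := Subgroup.card_mul_index (ψ.ker.subgroupOf P')
    rwa [Nat.card_congr (Subgroup.subgroupOfEquivOfLe hkP).toEquiv] at this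
  have h2 : Nat.card B' * Nat.card ψ.range ≤ Nat.card ↥(ψ.range ⊓ B') * Nat.card ψ.ker := by
    have e1 := Subgroup.card_mul_index ((ψ.range ⊓ B').subgroupOf B')
    rw [Nat.card_congr (Subgroup.subgroupOfEquivOfLe inf_le_right).toEquiv] at e1
    change _ * (ψ.range ⊓ B').relIndex B' = _ at e1
    rw [Subgroup.inf_relIndex_right] at e1
    have e2 := Subgroup.card_mul_index (ψ.range.subgroupOf ψ.ker)
    rw [Nat.card_congr (Subgroup.subgroupOfEquivOfLe hrange).toEquiv] at e2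
    change _ * ψ.range.relIndex ψ.ker = _ at e2
    have e3 : ψ.range.relIndex B' ≤ ψ.range.relIndex ψ.ker :=
      Subgroup.relIndex_le_of_le_right hBker Subgroup.FiniteIndex.index_ne_zero
    rw [← e1, ← e2, mul_assoc, mul_comm (ψ.range.relIndex B')]
    exact Nat.mul_le_mul le_rfl (Nat.mul_le_mul le_rfl e3)
  have h3 : Nat.card ψ.ker * Nat.card ψ.range = 256 := by
    rw [← Subgroup.index_ker, Subgroup.card_mul_index, t.cardA]
  refine ⟨P'.map A.subtype, ?_, ?_, ?_, ?_⟩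
  · rintro _ ⟨z, hz, rfl⟩
    refine ⟨z.2, g⁻¹ * z * g, ?_, by show g * (g⁻¹ * (z : X) * g) * g⁻¹ = z; group⟩
    have hzB : (z : X) * (y * z * y⁻¹) ∈ B := Subgroup.mem_subgroupOf.1 hz
    have hx : g⁻¹ * z * g ∈ Subgroup.centralizer (B : Set X) :=
      mul_mem (mul_mem (inv_mem hg) (t.A_le_cent z.2)) hg
    refine t.mem_of_conj hx ha ha haB ?_
    have e : g⁻¹ * (z : X) * g * a * (g⁻¹ * (z : X) * g)⁻¹ * a⁻¹ =
        g⁻¹ * ((z : X) * (y * (z : X)⁻¹ * y⁻¹)) * g := by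
      rw [hy]; group
    rw [e, t.toUMod.inv_eq z.2]
    have h3 := Subgroup.mem_centralizer_iff.1 hg _ hzB
    rw [mul_assoc, h3, inv_mul_cancel_left]
    exact hzB
  · rintro z ⟨hzA, hzc⟩
    exact ⟨⟨z, hzA⟩, hkP ((hker _).2 (Subgroup.mem_centralizer_singleton_iff.1 hzc).symm), rfl⟩
  · rw [hP'card, ← hkercard, ← h1, ← hB'card]
    calc 256 * Nat.card B' = Nat.card ψ.ker * (Nat.card B' * Nat.card ψ.range) := by rw [← h3]; ring
      _ ≤ Nat.card ψ.ker * (Nat.card ↥(ψ.range ⊓ B') * Nat.card ψ.ker) := Nat.mul_le_mul le_rfl h2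
      _ = _ := by ring
  · intro z hz hzB hz1
    rw [hP'card, ← hkercard, ← h1, mul_comm 2]
    refine Nat.mul_le_mul le_rfl ?_
    have : Nontrivial ↥(ψ.range ⊓ B') :=
      ⟨⟨⟨ψ ⟨z, hz⟩, ⟨⟨z, hz⟩, rfl⟩, Subgroup.mem_subgroupOf.2 hzB⟩, 1, fun e =>
        hz1 (congrArg (fun q : ↥(ψ.range ⊓ B') => ((q : A) : X)) e)⟩⟩
    exact Finite.one_lt_card

theorem map_mem_cent {g : X} (hg : g ∈ Subgroup.centralizer (B : Set X)) :
    A.map (MulAut.conj g).toMonoidHom ≤ Subgroup.centralizer (B : Set X) := by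
  rintro _ ⟨z, hz, rfl⟩
  exact mul_mem (mul_mem hg (t.A_le_cent hz)) (inv_mem hg)

theorem inf_map_eq {g : X} (hg : g ∈ Subgroup.centralizer (B : Set X)) (hgH : g ∉ H) :
    A ⊓ A.map (MulAut.conj g).toMonoidHom = B := by
  refine le_antisymm ?_ (le_inf t.B_le fun b hb => ⟨b, t.B_le hb, ?_⟩)
  · rintro z ⟨hzA, c, hc, hcz⟩
    by_contra hzB
    apply hgH
    refine t.mem_of_conj hg hc hzA hzB ?_
    rw [show g * c * g⁻¹ = z from hcz, mul_inv_cancel]
    exact one_mem _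
  · show g * b * g⁻¹ = b
    rw [← Subgroup.mem_centralizer_iff.1 hg b hb, mul_inv_cancel_right]

/-- Strong closure modulo `B`. -/
theorem mem_A_of_conj {g a : X} (hg : g ∈ Subgroup.centralizer (B : Set X)) (ha : a ∈ A) (haB : a ∉ B)
    (hh : g * a * g⁻¹ ∈ H) : g * a * g⁻¹ ∈ A := by
  classical
  by_contra hnA
  have M := t.toUMod
  have hgH : g ∉ H := fun h => hnA (M.normal h ha)
  obtain ⟨L, hLdef⟩ : ∃ L : X → Subgroup X, ∀ h, L h = A.map (MulAut.conj h).toMonoidHom ⊓ H :=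
    ⟨_, fun _ => rfl⟩
  have hcardF : ∀ h : X, Nat.card ↥(A ⊓ H.map (MulAut.conj h).toMonoidHom) = Nat.card (L h⁻¹) := by
    intro h
    have e : (A ⊓ H.map (MulAut.conj h).toMonoidHom).map (MulAut.conj h⁻¹).toMonoidHom = L h⁻¹ := by
      rw [hLdef, Subgroup.map_inf _ _ _ (MulAut.conj h⁻¹).injective, Subgroup.map_map]
      congr 1
      ext z
      simp [Subgroup.mem_map, mul_assoc]
    rw [← e]
    exact Nat.card_congr (Subgroup.equivMapOfInjective _ _ (MulAut.conj h⁻¹).injective).toEquiv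
  have hcomm : ∀ h, ∀ u ∈ L h, ∀ w ∈ L h, u * w = w * u := fun h => by
    rw [hLdef]
    rintro _ ⟨⟨p, hp, rfl⟩, -⟩ _ ⟨⟨q, hq, rfl⟩, -⟩
    rw [← map_mul, ← map_mul, t.comm p hp q hq]
  have hinv : ∀ h, ∀ u ∈ L h, u * u = 1 := fun h => by
    rw [hLdef]
    rintro _ ⟨⟨p, hp, rfl⟩, -⟩
    rw [← map_mul, t.invol p hp, map_one]
  have hLA : ∀ h ∈ Subgroup.centralizer (B : Set X), h ∉ H → ∀ u ∈ L h, u ∈ A → u ∈ B := by
    intro h hh hhH u hu huA
    rw [hLdef] at hu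
    rw [← t.inf_map_eq hh hhH]
    exact ⟨huA, hu.1⟩
  have hBL : ∀ h ∈ Subgroup.centralizer (B : Set X), B ≤ L h := by
    intro h hh b hb
    rw [hLdef]
    refine ⟨⟨b, t.B_le hb, ?_⟩, M.A_le_H (t.B_le hb)⟩
    show h * b * h⁻¹ = b
    rw [← Subgroup.mem_centralizer_iff.1 hh b hb, mul_inv_cancel_right]
  have hfixB : ∀ h ∈ Subgroup.centralizer (B : Set X), ∀ u ∈ L h, ∀ b ∈ B, u * b = b * u := by
    intro h hh u hu b hb
    exact hcomm h u hu b (hBL h hh hb)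
  -- what one element gives
  have elem : ∀ h ∈ Subgroup.centralizer (B : Set X), h ∉ H → ∀ u ∈ L h, u ∉ B →
      u ∈ H ∧ u ∉ A ∧ 256 * Nat.card B ≤ Nat.card (L h⁻¹) * (fxs (κ u)).length ∧
      A ⊓ Subgroup.centralizer ({u} : Set X) ≤ A ⊓ H.map (MulAut.conj h).toMonoidHom ∧
      (fxs (κ u)).length ≤ Nat.card (L h⁻¹) ∧
      ∀ z ∈ A, z * (u * z * u⁻¹) ∈ B → z * (u * z * u⁻¹) ≠ 1 → 2 * (fxs (κ u)).length ≤ Nat.card (L h⁻¹) := by
    intro h hh hhH u hu huB
    have huA : u ∉ A := fun e => huB (hLA h hh hhH u hu e)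
    have hu' := hu
    rw [hLdef] at hu
    obtain ⟨⟨a', ha', rfl⟩, huH⟩ := hu
    replace huH : h * a' * h⁻¹ ∈ H := huH
    have ha'B : a' ∉ B := fun e => huB (by
      show h * a' * h⁻¹ ∈ B
      rw [← Subgroup.mem_centralizer_iff.1 hh a' e, mul_inv_cancel_right]; exact e)
    obtain ⟨P, hP, hfP, hmain, htwo⟩ := t.exists_fix_mod hh ha' ha'B huH
    have hPc : Nat.card P ≤ Nat.card (L h⁻¹) := hcardF h ▸ Subgroup.card_le_of_le hP
    rw [M.card_fix huH] at hmain htwo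
    refine ⟨huH, huA, hmain.trans (Nat.mul_le_mul hPc le_rfl), hfP.trans hP, ?_,
      fun z hz h1 h2 => (htwo z hz h1 h2).trans hPc⟩
    have := Subgroup.card_le_of_le hfP
    rw [M.card_fix huH] at this
    exact this.trans hPc
  have hnotH : ∀ {h : X}, h ∉ H → h⁻¹ ∉ H := fun hn e => hn (by simpa using inv_mem e)
  have hBpos : 0 < Nat.card B := Nat.card_pos
  have big_out : ∀ h ∈ Subgroup.centralizer (B : Set X), Nat.card B < Nat.card (L h) → ∃ u ∈ L h, u ∉ B := by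
    intro h _ hlt
    by_contra hall
    push Not at hall
    exact absurd (Subgroup.card_le_of_le hall) (not_le.2 hlt)
  have inner_card : ∀ h ∈ Subgroup.centralizer (B : Set X), h ∉ H → ∃ S : Finset ℕ, CodeSet S ∧
      (∀ c, c ∈ S ↔ ∃ u ∈ L h ⊓ I, κ u = c) ∧ Nat.card ↥(L h ⊓ I) = Nat.card B * S.card ∧
      Nat.card (L h) ≤ 2 * (Nat.card B * S.card) := by
    intro h hh hhH
    obtain ⟨S, hS, hmem, hc⟩ := M.codeSet (L := L h ⊓ I) inf_le_right
      (fun u hu w hw => hcomm h u hu.1 w hw.1) (fun u hu => hinv h u hu.1)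
    have e : A ⊓ (L h ⊓ I) = B := le_antisymm (fun u hu => hLA h hh hhH u hu.2.1 hu.1)
      fun b hb => ⟨t.B_le hb, hBL h hh hb, t.A_le (t.B_le hb)⟩
    rw [e] at hc
    exact ⟨S, hS, hmem, hc, hc ▸ M.card_inner (hLdef h ▸ inf_le_right)⟩
  have step2 : ∀ h ∈ Subgroup.centralizer (B : Set X), h ∉ H → 4 * Nat.card B ≤ Nat.card (L h) →
      16 * Nat.card B ≤ Nat.card (L h⁻¹) := by
    intro h hh hhH h4
    obtain ⟨u, hu, huB, hf⟩ : ∃ u ∈ L h, u ∉ B ∧ (fxs (κ u)).length ≤ 16 := by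
      by_cases hin : L h ≤ I
      · obtain ⟨S, hS, hmem, hc, -⟩ := inner_card h hh hhH
        rw [inf_eq_left.2 hin] at hc
        obtain ⟨c, hcS, hc1⟩ := hS.exists_thin (by
          have : 4 * Nat.card B ≤ Nat.card B * S.card := hc ▸ h4
          nlinarith)
        obtain ⟨u, hu, rfl⟩ := (hmem c).1 hcS
        have ht := thin_fix
        simp only [List.all_eq_true, nbeq_iff] at ht
        refine ⟨u, hu.1, fun e => ?_, (ht _ hc1).le⟩
        have h1 := ht _ hc1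
        rw [M.κ_A (t.B_le e), show (fxs idc).length = 256 by decide +kernel] at h1
        omega
      · obtain ⟨u, hu, huI⟩ := SetLike.not_le_iff_exists.1 hin
        exact ⟨u, hu, fun e => huI (t.A_le (t.B_le e)), M.outer_fix (by rw [hLdef] at hu; exact hu.2) huI⟩
    obtain ⟨-, -, h1, -⟩ := elem h hh hhH u hu huB
    nlinarith [Nat.mul_le_mul (le_refl (Nat.card (L h⁻¹))) hf]
  have step1 : ∀ h ∈ Subgroup.centralizer (B : Set X), h ∉ H → ∀ u ∈ L h, u ∉ B →
      4 * Nat.card B ≤ Nat.card (L h⁻¹) := by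
    intro h hh hhH u hu huB
    obtain ⟨huH, huA, h1, -⟩ := elem h hh hhH u hu huB
    nlinarith [Nat.mul_le_mul (le_refl (Nat.card (L h⁻¹))) (M.invol_fix huH (hinv h u hu) huA)]
  have hgi := inv_mem hg
  have hgiH := hnotH hgH
  have h4 : 4 * Nat.card B ≤ Nat.card (L g⁻¹) := step1 g hg hgH (g * a * g⁻¹)
    (by rw [hLdef]; exact ⟨⟨a, ha, rfl⟩, hh⟩) fun e => hnA (t.B_le e)
  have h4' : 4 * Nat.card B ≤ Nat.card (L g) := by
    obtain ⟨u, hu, huB⟩ := big_out _ hgi (by omega)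
    simpa using step1 _ hgi hgiH u hu huB
  have h16 : 16 * Nat.card B ≤ Nat.card (L g) := by simpa using step2 _ hgi hgiH h4
  have h16' : 16 * Nat.card B ≤ Nat.card (L g⁻¹) := step2 g hg hgH h4'
  -- move a code of the second class to the listed one
  have moved : ∀ h ∈ Subgroup.centralizer (B : Set X), h ∉ H → 16 * Nat.card B ≤ Nat.card (L h) →
      ∃ k ∈ I, ∃ S : Finset ℕ, CodeSet S ∧ xC gensU 1 ∈ S ∧
        (∀ c, c ∈ S ↔ ∃ u ∈ L h ⊓ I, κ (k * u * k⁻¹) = c) ∧ Nat.card ↥(L h ⊓ I) = Nat.card B * S.card ∧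
        8 ≤ S.card := by
    intro h hh hhH hge
    obtain ⟨S, hS, hmem, hc, h2⟩ := inner_card h hh hhH
    have h8 : 8 ≤ S.card := by nlinarith
    obtain ⟨c, hcS, hc1⟩ := hS.exists_thin (by omega)
    obtain ⟨u, hu, rfl⟩ := (hmem c).1 hcS
    obtain ⟨k, hk, hke⟩ := M.exists_conj_thin hu.2 (hinv h u hu.1) hc1
    obtain ⟨S', hS', hmem', hc'⟩ := M.codeSet (L := (L h ⊓ I).map (MulAut.conj k).toMonoidHom)
      (by rintro _ ⟨z, hz, rfl⟩; exact mul_mem (mul_mem hk hz.2) (inv_mem hk))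
      (by rintro _ ⟨p, hp, rfl⟩ _ ⟨q, hq, rfl⟩; rw [← map_mul, ← map_mul, hcomm h p hp.1 q hq.1])
      (by rintro _ ⟨p, hp, rfl⟩; rw [← map_mul, hinv h p hp.1, map_one])
    have e : A ⊓ (L h ⊓ I).map (MulAut.conj k).toMonoidHom = B.map (MulAut.conj k).toMonoidHom := by
      refine le_antisymm ?_ ?_
      · rintro _ ⟨hA', z, hz, rfl⟩
        refine ⟨z, hLA h hh hhH z hz.1 ?_, rfl⟩
        have := M.normal (inv_mem (M.I_le hk)) hA'
        rwa [show k⁻¹ * (MulAut.conj k).toMonoidHom z * k⁻¹⁻¹ = z by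
          show k⁻¹ * (k * z * k⁻¹) * k⁻¹⁻¹ = z
          group] at this
      · rintro _ ⟨b, hb, rfl⟩
        exact ⟨M.normal (M.I_le hk) (t.B_le hb), b, ⟨hBL h hh hb, t.A_le (t.B_le hb)⟩, rfl⟩
    rw [e, Subgroup.card_map_of_injective (MulAut.conj k).injective,
      Subgroup.card_map_of_injective (MulAut.conj k).injective, hc] at hc'
    refine ⟨k, hk, S', hS', (hmem' _).2 ⟨_, ⟨u, hu, rfl⟩, hke⟩, fun c => ?_, ?_, ?_⟩
    · rw [hmem']
      exact ⟨by rintro ⟨_, ⟨z, hz, rfl⟩, h'⟩; exact ⟨z, hz, h'⟩, by rintro ⟨z, hz, h'⟩; exact ⟨_, ⟨z, hz, rfl⟩, h'⟩⟩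
    · rw [hc, Nat.eq_of_mul_eq_mul_left hBpos hc']
    · rw [← Nat.eq_of_mul_eq_mul_left hBpos hc']; exact h8
  -- no sixteen
  have small : ∀ h ∈ Subgroup.centralizer (B : Set X), h ∉ H → 16 * Nat.card B ≤ Nat.card (L h) →
      Nat.card ↥(L h ⊓ I) ≤ 8 * Nat.card B := by
    intro h hh hhH hge
    obtain ⟨k, hk, S, hS, hx1, hmem, hc, -⟩ := moved h hh hhH hge
    have h8 : S.card ≤ 8 := by
      by_contra hlt
      have hbig := hS.big hx1 (by omega)
      obtain ⟨F', hF'⟩ : ∃ F', F' = (A ⊓ H.map (MulAut.conj h).toMonoidHom).map (MulAut.conj k).toMonoidHom :=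
        ⟨_, rfl⟩
      have hF'A : F' ≤ A := by
        rw [hF']; rintro _ ⟨z, hz, rfl⟩; exact M.normal (M.I_le hk) hz.1
      have hs := line_span
      simp only [Bool.and_eq_true, List.all_eq_true, List.any_eq_true, List.mem_range, nbeq_iff, memB_iff] at hs
      obtain ⟨⟨hpair, hlen⟩, hspan⟩ := hs
      have hcov : ∀ i < 2, ∀ v ∈ fxs (spanPair.getD i 0), ∃ a ∈ F', vc a = v := by
        intro i hi v hv
        obtain ⟨hq, hroot⟩ := hpair (spanPair.getD i 0) (by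
          rw [List.getD_eq_getElem _ _ (by omega)]
          exact List.getElem_mem _)
        obtain ⟨u, hu, hue⟩ := (hmem (spanPair.getD i 0)).1
          (by rw [hbig, List.mem_toFinset]; exact List.mem_cons_of_mem _ hq)
        have huB : u ∉ B := fun e => by
          have := M.normal (M.I_le hk) (t.B_le e)
          rw [M.κ_A this] at hue
          have hid : (memB idc clU0) = false := by decide +kernel
          rw [hue, memB_iff.2 hroot] at hid
          exact Bool.noConfusion hid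
        obtain ⟨huH, -, -, hfix, -⟩ := elem h hh hhH u hu.1 huB
        obtain ⟨a', ha', rfl⟩ := M.vc_surj (mem_fxs.1 hv).1
        refine ⟨a', ?_, rfl⟩
        rw [hF', Subgroup.mem_map_equiv, MulAut.conj_symm_apply]
        refine hfix ⟨by simpa using M.normal (inv_mem (M.I_le hk)) ha', Subgroup.mem_centralizer_singleton_iff.2 ?_⟩
        have hc2 := (M.commute_iff (mul_mem (mul_mem (M.I_le hk) huH) (inv_mem (M.I_le hk))) ha').2
          (by rw [hue]; exact (mem_fxs.1 hv).2)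
        calc k⁻¹ * a' * k * u = k⁻¹ * (a' * (k * u * k⁻¹)) * k := by group
          _ = k⁻¹ * (k * u * k⁻¹ * a') * k := by rw [hc2]
          _ = u * (k⁻¹ * a' * k) := by group
      have hadd : ∀ {p q : ℕ}, (∃ a ∈ F', vc a = p) → (∃ a ∈ F', vc a = q) → ∃ a ∈ F', vc a = p ^^^ q := by
        rintro p q ⟨a', ha', rfl⟩ ⟨b', hb', rfl⟩
        exact ⟨a' * b', mul_mem ha' hb', t.vc_mul a' (hF'A ha') b' (hF'A hb')⟩
      have hbit : ∀ v i, i < 8 → ∃ a ∈ F', vc a = bit v i * 2 ^ i := by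
        intro v i hi
        rcases bit_cases v i with e | e <;> rw [e]
        · rw [zero_mul]; exact ⟨1, one_mem _, M.vc_one⟩
        · rw [one_mul]
          obtain ⟨p, hp, hpq⟩ := hspan i hi
          have hp256 := (mem_fxs.1 hp).1
          have h2i : (2 : ℕ) ^ i < 256 := lt_of_lt_of_le (Nat.pow_lt_pow_right (by norm_num) hi) le_rfl
          have := hadd (hcov 0 (by norm_num) p hp) (hcov 1 (by norm_num) _ (mem_fxs.2 ⟨xor_lt hp256 h2i, hpq⟩))
          rwa [← Nat.xor_assoc, Nat.xor_self, Nat.zero_xor] at this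
      have hall : vecs.length ≤ Nat.card F' := M.le_card List.nodup_range fun v hv => by
        rw [vec_eq v (List.mem_range.1 hv)]
        exact hadd (hadd (hadd (hadd (hadd (hadd (hadd (hbit v 0 (by norm_num)) (hbit v 1 (by norm_num)))
          (hbit v 2 (by norm_num))) (hbit v 3 (by norm_num))) (hbit v 4 (by norm_num))) (hbit v 5 (by norm_num)))
          (hbit v 6 (by norm_num))) (hbit v 7 (by norm_num))
      rw [hF', Subgroup.card_map_of_injective (MulAut.conj k).injective] at hall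
      have hAle : A ⊓ H.map (MulAut.conj h).toMonoidHom = A :=
        Subgroup.eq_of_le_of_card_ge inf_le_left (by rw [t.cardA]; simpa [vecs] using hall)
      apply hnotH hhH
      refine M.mem_of_map_le ?_
      rintro _ ⟨z, hz, rfl⟩
      rw [← hAle] at hz
      obtain ⟨w, hw, hwz⟩ := hz.2
      show h⁻¹ * z * h⁻¹⁻¹ ∈ H
      rw [← hwz]
      show h⁻¹ * (h * w * h⁻¹) * h⁻¹⁻¹ ∈ H
      rwa [show h⁻¹ * (h * w * h⁻¹) * h⁻¹⁻¹ = w by group]
    rw [hc, mul_comm 8]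
    exact Nat.mul_le_mul le_rfl h8
  obtain ⟨k, hk, S, hS, hx1, hmem, hc, hS8⟩ := moved g hg hgH h16
  have hsI := small g hg hgH h16
  have hsI' := small _ hgi hgiH h16'
  have hLg' := M.card_inner (L := L g⁻¹) (hLdef _ ▸ inf_le_right)
  obtain ⟨c, hcL, hcI⟩ : ∃ c ∈ L g, c ∉ I := by
    by_contra hall
    push Not at hall
    rw [inf_eq_left.2 hall] at hsI
    omega
  have hkH := M.I_le hk
  obtain ⟨r, hrS, hr⟩ := hS.exists_root hx1 (by omega)
  obtain ⟨u1, hu1, hu1e⟩ := (hmem _).1 hx1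
  obtain ⟨w, hw, hwe⟩ := (hmem r).1 hrS
  have hrne : r ≠ idc := fun e => by
    have hid : (memB idc clU0) = false := by decide +kernel
    rw [← e, memB_iff.2 hr] at hid
    exact Bool.noConfusion hid
  have hcH : c ∈ H := by rw [hLdef] at hcL; exact hcL.2
  have hwH : w ∈ H := M.I_le hw.2
  have hu1H : u1 ∈ H := M.I_le hu1.2
  have hconj : ∀ {v : X}, v ∈ H → k * v * k⁻¹ ∈ H := fun hv => mul_mem (mul_mem hkH hv) (inv_mem hkH)
  have hcI' : k * c * k⁻¹ ∉ I := fun e => hcI (by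
    have := mul_mem (mul_mem (inv_mem hk) e) hk
    rwa [show k⁻¹ * (k * c * k⁻¹) * k = c by group] at this)
  have hsub : B.map (MulAut.conj k).toMonoidHom ≤ A := by
    rintro _ ⟨b, hb, rfl⟩; exact M.normal hkH (t.B_le hb)
  have hcom : ∀ {v : X}, v ∈ L g → ∀ d ∈ B.map (MulAut.conj k).toMonoidHom, k * v * k⁻¹ * d = d * (k * v * k⁻¹) := by
    rintro v hv _ ⟨b, hb, rfl⟩
    show k * v * k⁻¹ * (k * b * k⁻¹) = k * b * k⁻¹ * (k * v * k⁻¹)
    rw [show k * v * k⁻¹ * (k * b * k⁻¹) = k * (v * b) * k⁻¹ by group, hfixB g hg v hv b hb]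
    group
  obtain ⟨hB4, hfull⟩ := M.line_outer hsub (hconj hu1H) hu1e (hconj hcH) hcI' (hcom hu1.1) (hcom hcL)
  rw [Subgroup.card_map_of_injective (MulAut.conj k).injective] at hB4 hfull
  have hwB : w ∉ B := fun e => hrne (by rw [← hwe]; exact M.κ_A (M.normal hkH (t.B_le e)))
  obtain ⟨-, hwA, -, -, hwf, htwo⟩ := elem g hg hgH w hw.1 hwB
  have h64 : (fxs (κ w)).length = 64 := by
    have h1 := M.fix_conj_le (u := w) hkH
    have h2 := M.fix_conj_le (u := k * w * k⁻¹) (inv_mem hkH)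
    rw [show k⁻¹ * (k * w * k⁻¹) * k⁻¹⁻¹ = w by group] at h2
    rw [M.card_fix hwH, M.card_fix (hconj hwH), hwe] at h1 h2
    have ht := root_fix
    simp only [List.all_eq_true, nbeq_iff] at ht
    have := ht r hr
    omega
  have hB4' : 4 ≤ Nat.card B := by omega
  -- a fixed vector in the range of the transvection
  obtain ⟨kc, hkc⟩ : ∃ kc, kc = κ (k * c * k⁻¹) := ⟨_, rfl⟩
  have hkcc : cm kc kc = idc := by
    rw [hkc]
    refine M.κ_sq (hconj hcH) ?_
    rw [show k * c * k⁻¹ * (k * c * k⁻¹) = k * (c * c) * k⁻¹ by group, hinv g c hcL, mul_one, mul_inv_cancel]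
  have hrc : cm kc r = cm r kc := by
    rw [hkc, ← hwe]
    refine M.κ_comm (hconj hcH) (hconj hwH) ?_
    rw [show k * c * k⁻¹ * (k * w * k⁻¹) = k * (c * w) * k⁻¹ by group, hcomm g c hcL w hw.1]
    group
  obtain ⟨v0, hv0, hmove⟩ : ∃ v < 256, ap r v ≠ v := by
    by_contra hall
    push Not at hall
    exact hrne (code_ext (hwe ▸ M.κ_lt _) idc_lt fun v hv => (hall v hv).trans (ap_idc hv).symm)
  obtain ⟨u0, hu0⟩ : ∃ u0, u0 = ap r v0 ^^^ v0 := ⟨_, rfl⟩
  have hu0256 : u0 < 256 := hu0 ▸ xor_lt (ap_lt _ _) hv0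
  have hu0ne : u0 ≠ 0 := fun e => hmove (Nat.xor_eq_zero_iff.1 (hu0 ▸ e))
  obtain ⟨v1, hv1, hv1ne, hv1c⟩ :
      ∃ v1 < 256, ap r v1 ^^^ v1 ≠ 0 ∧ ap kc (ap r v1 ^^^ v1) = ap r v1 ^^^ v1 := by
    by_cases he : ap kc u0 = u0
    · exact ⟨v0, hv0, hu0 ▸ hu0ne, hu0 ▸ he⟩
    refine ⟨v0 ^^^ ap kc v0, xor_lt hv0 (ap_lt _ _), ?_⟩
    have e : ap r (v0 ^^^ ap kc v0) ^^^ (v0 ^^^ ap kc v0) = u0 ^^^ ap kc u0 := by
      rw [hu0, ap_xor, ap_xor, ← ap_cm r kc, ← hrc, ap_cm, xor4]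
    rw [e]
    refine ⟨fun h => he (Nat.xor_eq_zero_iff.1 h).symm, ?_⟩
    rw [ap_xor, ← ap_cm, hkcc, ap_idc hu0256, Nat.xor_comm]
  have hl1 : ap r v1 ^^^ v1 ∈ l1L := by
    have h1 := line_root
    simp only [List.all_eq_true, Bool.or_eq_true, Bool.not_eq_true', Bool.eq_false_iff, Ne, memB_iff, vecs,
      List.mem_range] at h1
    exact (h1 r (hS.mem_j hx1 hrS hrne)).resolve_left (fun h => h hr) v1 hv1
  obtain ⟨d, hd, hde⟩ := hfull hB4' _ hl1 (hkc ▸ hv1c)
  obtain ⟨a1, ha1, ha1e⟩ := M.vc_surj hv1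
  have hm := mul_mem ha1 (M.normal (hconj hwH) ha1)
  have hval : a1 * (k * w * k⁻¹ * a1 * (k * w * k⁻¹)⁻¹) = d := by
    refine M.vc_inj hm (hsub hd) ?_
    rw [hde, t.vc_mul _ ha1 _ (M.normal (hconj hwH) ha1), M.act _ (hconj hwH) _ ha1, hwe, ha1e, Nat.xor_comm]
  obtain ⟨b, hb, hbd⟩ := hd
  have hz : k⁻¹ * a1 * k ∈ A := by simpa using M.normal (inv_mem hkH) ha1
  have hzb : k⁻¹ * a1 * k * (w * (k⁻¹ * a1 * k) * w⁻¹) = b := by
    calc k⁻¹ * a1 * k * (w * (k⁻¹ * a1 * k) * w⁻¹) = k⁻¹ * (a1 * (k * w * k⁻¹ * a1 * (k * w * k⁻¹)⁻¹)) * k := by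
          group
      _ = k⁻¹ * (k * b * k⁻¹) * k := by rw [hval, ← hbd]; rfl
      _ = b := by group
  have hb1 : b ≠ 1 := fun e => hv1ne (by
    rw [← hde, ← hbd, e, map_one, M.vc_one])
  have := htwo _ hz (hzb ▸ hb) (hzb ▸ hb1)
  omega

/-- The alternative of the induction step. -/
theorem le_or_transitive :
    Subgroup.centralizer (B : Set X) ≤ H ∨
      ∃ a ∈ A, a ∉ B ∧ ∀ b ∈ A, b ∉ B →
        ∃ m ∈ Subgroup.centralizer (B : Set X) ⊓ H, m * a * m⁻¹ * b⁻¹ ∈ B := by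
  by_cases hex : ∃ a ∈ A, a ∉ B ∧ ∃ g ∈ Subgroup.centralizer (B : Set X), g * a * g⁻¹ ∉ H
  swap
  · left
    push Not at hex
    intro g hg
    refine t.toUMod.mem_of_map_le ?_
    rintro _ ⟨z, hz, rfl⟩
    show g * z * g⁻¹ ∈ H
    by_cases hzB : z ∈ B
    · rw [← Subgroup.mem_centralizer_iff.1 hg z hzB, mul_inv_cancel_right]
      exact t.toUMod.A_le_H hz
    · exact hex z hz hzB g hg
  obtain ⟨a, ha, haB, g, hg, hgH⟩ := hex
  refine Or.inr ⟨a, ha, haB, fun b hb hbB => ?_⟩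
  set C := Subgroup.centralizer (B : Set X) with hC
  have hB' : (B.subgroupOf C).Normal := ⟨fun n hn z => by
    rwa [show z * n * z⁻¹ = n from Subtype.ext (by
      show (z : X) * n * (z : X)⁻¹ = n
      rw [← Subgroup.mem_centralizer_iff.1 z.2 (n : X) (Subgroup.mem_subgroupOf.1 hn), mul_inv_cancel_right])]⟩
  let π := QuotientGroup.mk' (B.subgroupOf C)
  have hπ : ∀ x y : ↥C, π x = π y ↔ (x : X) * (y : X)⁻¹ ∈ B := fun x y => by
    rw [← mul_inv_eq_one, ← map_inv, ← map_mul]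
    exact QuotientGroup.eq_one_iff (N := B.subgroupOf C) (x * y⁻¹)
  let bC : ↥C := ⟨b, t.A_le_cent hb⟩
  let gC : ↥C := ⟨g, hg⟩
  let aC : ↥C := ⟨a, t.A_le_cent ha⟩
  have hsqb : π bC * π bC = 1 := by
    rw [← map_mul, show bC * bC = 1 from Subtype.ext (t.invol b hb), map_one]
  have hsqa : π (gC * aC * gC⁻¹) * π (gC * aC * gC⁻¹) = 1 := by
    rw [← map_mul, show gC * aC * gC⁻¹ * (gC * aC * gC⁻¹) = gC * (aC * aC) * gC⁻¹ by group,
      show aC * aC = 1 from Subtype.ext (t.invol a ha), mul_one, mul_inv_cancel, map_one]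
  rcases dihedral_cases hsqb hsqa with ⟨w, hw⟩ | ⟨c, hc1, hcu, hcv, hconj⟩
  · obtain ⟨q, rfl⟩ := QuotientGroup.mk'_surjective (B.subgroupOf C) w
    rw [← map_mul, ← map_inv, ← map_mul, hπ] at hw
    have hm : ((q : X) * g) * a * ((q : X) * g)⁻¹ * b⁻¹ ∈ B := by
      have e : ((q : X) * g) * a * ((q : X) * g)⁻¹ = (q : X) * (g * a * g⁻¹) * (q : X)⁻¹ := by group
      rw [e]
      exact hw
    exact ⟨(q : X) * g, ⟨mul_mem q.2 hg, t.mem_of_conj (mul_mem q.2 hg) ha hb hbB hm⟩, hm⟩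
  · exfalso
    obtain ⟨cC, rfl⟩ := QuotientGroup.mk'_surjective (B.subgroupOf C) c
    have hcH : (cC : X) ∈ H := by
      have h1 := (hπ (bC * cC) (cC * bC)).1 (by rw [map_mul, map_mul]; exact hcu)
      refine t.mem_of_conj cC.2 hb hb hbB ?_
      rw [Subgroup.coe_mul, Subgroup.coe_mul] at h1
      have h2 : (cC : X) * b * (cC : X)⁻¹ * b⁻¹ = ((bC : X) * cC * ((cC : X) * bC)⁻¹)⁻¹ := by
        show (cC : X) * b * (cC : X)⁻¹ * b⁻¹ = (b * cC * ((cC : X) * b)⁻¹)⁻¹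
        group
      rw [h2]
      exact inv_mem h1
    have hBH : B ≤ H := t.B_le.trans t.toUMod.A_le_H
    have hcA : (cC : X) ∈ A := by
      have key : ∀ (a' : X) (q : ↥C), a' ∈ A → a' ∉ B →
          (q : X) * a' * (q : X)⁻¹ * (b * (cC : X))⁻¹ ∈ B → (cC : X) ∈ A := by
        intro a' q ha' ha'B hq
        have hmemH : (q : X) * a' * (q : X)⁻¹ ∈ H := by
          have := mul_mem (hBH hq) (mul_mem (t.toUMod.A_le_H hb) hcH)
          simpa [mul_assoc] using this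
        have hA' := t.mem_A_of_conj q.2 ha' ha'B hmemH
        have h1 : b * (cC : X) ∈ A := by
          have := mul_mem (inv_mem (t.B_le hq)) hA'
          simpa [mul_assoc] using this
        exact (Subgroup.mul_mem_cancel_left A hb).1 h1
      rcases hconj with ⟨w, hw⟩ | ⟨w, hw⟩
      · obtain ⟨q, rfl⟩ := QuotientGroup.mk'_surjective (B.subgroupOf C) w
        rw [← map_mul, ← map_inv, ← map_mul, ← map_mul, hπ] at hw
        exact key b q hb hbB hw
      · obtain ⟨q, rfl⟩ := QuotientGroup.mk'_surjective (B.subgroupOf C) w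
        rw [← map_mul, ← map_inv, ← map_mul, ← map_mul, hπ] at hw
        refine key a (q * gC) ha haB ?_
        have e : ((q * gC : ↥C) : X) * a * ((q * gC : ↥C) : X)⁻¹ = (q : X) * (g * a * g⁻¹) * (q : X)⁻¹ := by
          show ((q : X) * g) * a * ((q : X) * g)⁻¹ = _
          group
        rw [e]
        exact hw
    have hcB : (cC : X) ∉ B := fun h => hc1 ((QuotientGroup.eq_one_iff _).2 h)
    apply hgH
    refine t.mem_of_conj (mul_mem (mul_mem hg (t.A_le_cent ha)) (inv_mem hg)) hcA hcA hcB ?_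
    have h1 := (hπ (gC * aC * gC⁻¹ * cC) (cC * (gC * aC * gC⁻¹))).1 (by rw [map_mul, map_mul _ cC]; exact hcv)
    rw [Subgroup.coe_mul, Subgroup.coe_mul] at h1
    have e : g * a * g⁻¹ * (cC : X) * (g * a * g⁻¹)⁻¹ * (cC : X)⁻¹ =
        g * a * g⁻¹ * (cC : X) * ((cC : X) * (g * a * g⁻¹))⁻¹ := by group
    rw [e]
    exact h1

end Step

end Cfsg.Lib.U62Core
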