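import Cfsg.Agent.Lib.U62Core.Close
import Cfsg.Agent.Lib.Coprime.Generation
import Cfsg.Agent.Lib.PGroup.Basic

/-!
# The descending induction for the module of U₄(2)
-/

set_option autoImplicit false
set_option linter.unusedSectionVars false
set_option linter.style.haveILetI false

namespace Cfsg.Lib.U62Core

open Cfsg.Lib.U62Type

variable {X : Type*} [Group X]

theorem spanL_ind {l : List ℕ} {P : ℕ → Prop} (h0 : P 0) (hadd : ∀ a b, P a → P b → P (a ^^^ b))
    (hg : ∀ g ∈ l, P g) : ∀ x ∈ spanL l, P x := by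
  have key : ∀ (l acc : List ℕ), (∀ x ∈ acc, P x) → (∀ g ∈ l, P g) →
      ∀ x ∈ l.foldl (fun acc x => acc ++ acc.map (x ^^^ ·)) acc, P x := by
    intro l
    induction l with
    | nil => exact fun _ h _ => h
    | cons a l ih =>
      intro acc hacc hl
      rw [List.foldl_cons]
      refine ih _ (fun x hx => ?_) fun g hg => hl g (List.mem_cons_of_mem _ hg)
      rcases List.mem_append.1 hx with h | h
      · exact hacc x h
      · obtain ⟨b, hb, rfl⟩ := List.mem_map.1 h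
        exact hadd _ _ (hl a List.mem_cons_self) (hacc b hb)
  exact key l [0] (by simpa using h0) hg

namespace UMod

variable [Finite X] {A I H : Subgroup X} {vc κ : X → ℕ} (M : UMod A I H vc κ)
include M

theorem mem_of_commute_three {x g : X} (hx : x ∈ H) (h3 : orderOf x = 3)
    (hfix : ∃ a ∈ A, a ≠ 1 ∧ x * a = a * x) (hg : g * x = x * g) : g ∈ H :=
  M.three x hx h3 hfix (Subgroup.mem_centralizer_singleton_iff.2 hg)

/-- A `3'`-subgroup normalised by a subgroup of order nine lies in the normalizer. -/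
theorem le_of_nine {E U : Subgroup X} (hE : E ≤ H) (hE9 : Nat.card E = 9)
    (hcomm : ∀ a ∈ E, ∀ b ∈ E, a * b = b * a) (hexp : ∀ a ∈ E, a ^ 3 = 1)
    (hfix : ∀ e ∈ E, e ≠ 1 → ∃ a ∈ A, a ≠ 1 ∧ e * a = a * e)
    (hnorm : E ≤ Subgroup.normalizer (U : Set X)) (hU : ¬ 3 ∣ Nat.card U) : U ≤ H := by
  have : IsMulCommutative E := ⟨⟨fun a b => Subtype.ext (hcomm a a.2 b b.2)⟩⟩
  have hnc : ¬ IsCyclic E := fun hc => by
    obtain ⟨g, hg⟩ := hc.exists_ofOrder_eq_natCard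
    have h1 : g ^ 3 = 1 := Subtype.ext (by simpa using hexp g g.2)
    have h2 := orderOf_dvd_of_pow_eq_one h1
    rw [hg, hE9] at h2
    norm_num at h2
  have hcop : (Nat.card E).Coprime (Nat.card U) := by
    rw [hE9, show (9 : ℕ) = 3 ^ 2 from rfl]
    exact Nat.Coprime.pow_left _ ((Nat.prime_three.coprime_iff_not_dvd).2 hU)
  refine (Cfsg.Lib.Coprime.le_iSup_centralizer_of_not_isCyclic hnc hnorm hcop).trans
    (iSup_le fun a => ?_)
  have h3 : orderOf (a : X) = 3 := orderOf_eq_prime (hexp _ a.2.1) a.2.2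
  rintro g ⟨-, hg⟩
  exact M.mem_of_commute_three (hE a.2.1) h3 (hfix _ a.2.1 a.2.2) (Subgroup.mem_centralizer_singleton_iff.1 hg)

theorem card_H_dvd : Nat.card H ∣ 512 * 25920 := by
  have h1 := Subgroup.card_mul_index (I.subgroupOf H)
  rw [Nat.card_congr (Subgroup.subgroupOfEquivOfLe M.I_le).toEquiv, M.cardI] at h1
  have h2 : (I.subgroupOf H).index ≤ 2 := M.relIndex_inner
  have h3 : (I.subgroupOf H).index ≠ 0 := Subgroup.FiniteIndex.index_ne_zero
  rw [← h1, show (512 : ℕ) * 25920 = 256 * 25920 * 2 by norm_num]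
  refine Nat.mul_dvd_mul_left _ ?_
  rcases (show (I.subgroupOf H).index = 1 ∨ (I.subgroupOf H).index = 2 by omega) with e | e <;> rw [e] <;> norm_num

theorem mem_I_of_odd {y : X} (hy : y ∈ H) (hodd : Odd (orderOf y)) : y ∈ I := by
  have h2 : y ^ 2 ∈ I := by
    have h1 : (I.subgroupOf H).index ≤ 2 := M.relIndex_inner
    have h3 : (I.subgroupOf H).index ≠ 0 := Subgroup.FiniteIndex.index_ne_zero
    rcases (show (I.subgroupOf H).index = 1 ∨ (I.subgroupOf H).index = 2 by omega) with e | e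
    · exact pow_mem (Subgroup.relIndex_eq_one.1 e hy) 2
    · exact Subgroup.mem_subgroupOf.1 (Subgroup.sq_mem_of_index_two e (⟨y, hy⟩ : H))
  obtain ⟨j, hj⟩ := hodd
  have h3 : y = (y ^ 2) ^ (j + 1) := by
    rw [← pow_mul, show 2 * (j + 1) = orderOf y + 1 by omega, pow_succ, pow_orderOf_eq_one, one_mul]
  rw [h3]
  exact pow_mem h2 _

/-- Elements of prime order are conjugate into a Sylow subgroup of the inner half. -/
theorem conj_into {p n m : ℕ} [Fact p.Prime] {P : Subgroup X} (hP : P ≤ I) (hc : Nat.card P = p ^ n)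
    (hI : Nat.card I = p ^ n * m) (hm : ¬ p ∣ m) {y : X} (hy : y ∈ I) (hyo : orderOf y = p) :
    ∃ g ∈ I, g * y * g⁻¹ ∈ P := by
  have hP' : IsPGroup p (P.subgroupOf I) :=
    IsPGroup.of_card (n := n) (by rw [Nat.card_congr (Subgroup.subgroupOfEquivOfLe hP).toEquiv, hc])
  obtain ⟨Q, hQ⟩ := hP'.exists_le_sylow
  have hQe : P.subgroupOf I = (Q : Subgroup I) := by
    refine Subgroup.eq_of_le_of_card_ge hQ ?_
    rw [Nat.card_congr (Subgroup.subgroupOfEquivOfLe hP).toEquiv, hc]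
    obtain ⟨j, hj⟩ := IsPGroup.iff_card.1 Q.isPGroup'
    have hd := Subgroup.card_subgroup_dvd_card (Q : Subgroup I)
    rw [hj, hI] at hd
    rw [show Nat.card (Q : Subgroup I) = p ^ j from hj]
    by_contra hlt
    rw [not_le] at hlt
    have hn : n + 1 ≤ j := (Nat.pow_lt_pow_iff_right (Fact.out : p.Prime).one_lt).1 hlt
    have := (pow_dvd_pow p hn).trans hd
    rw [pow_succ] at this
    exact hm (Nat.dvd_of_mul_dvd_mul_left (pow_pos (Fact.out : p.Prime).pos n) this)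
  have hy' : IsPGroup p (Subgroup.zpowers (⟨y, hy⟩ : I)) :=
    IsPGroup.of_card (n := 1) (by rw [Nat.card_zpowers, Subgroup.orderOf_mk, hyo, pow_one])
  obtain ⟨R, hR⟩ := hy'.exists_le_sylow
  obtain ⟨g, hg⟩ := MulAction.exists_smul_eq ↥I R Q
  refine ⟨g, g.2, ?_⟩
  have : g * ⟨y, hy⟩ * g⁻¹ ∈ (Q : Subgroup I) := by
    rw [← hg]
    exact Subgroup.smul_mem_pointwise_smul _ (MulAut.conj g) _ (hR (Subgroup.mem_zpowers _))
  rw [← hQe] at this
  exact this

/-- A Sylow 3-subgroup with the listed codes. -/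
theorem exists_syl : ∃ P : Subgroup X, P ≤ I ∧ Nat.card P = 81 ∧ (∀ h ∈ P, κ h ∈ s81L) ∧
    (∀ c ∈ s81L, ∃ h ∈ P, κ h = c) ∧ ∀ h ∈ P, h ∈ A → h = 1 := by
  classical
  have : Fact (Nat.Prime 3) := ⟨Nat.prime_three⟩
  obtain ⟨hw, heq, hlen, hnd⟩ := syl_words
  simp only [List.all_eq_true, Nat.blt_eq] at hw
  have hcl := syl_closed
  simp only [List.all_eq_true, memB_iff] at hcl
  have hidc : idc ∈ s81L := by
    have h : memB idc s81L = true := by decide +kernel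
    exact memB_iff.1 h
  let Mo : Submonoid X :=
    { carrier := {h | h ∈ I ∧ κ h ∈ s81L}
      one_mem' := ⟨one_mem _, by rw [M.κ_one]; exact hidc⟩
      mul_mem' := fun {a b} ha hb => ⟨mul_mem ha.1 hb.1, by
        rw [M.κ_mul a (M.I_le ha.1) b (M.I_le hb.1)]; exact hcl _ ha.2 _ hb.2⟩ }
  let T : Subgroup X :=
    { Mo with
      inv_mem' := fun {a} ha => by
        have h1 : a ^ (orderOf a - 1) ∈ Mo := pow_mem ha _
        rwa [← inv_eq_of_mul_eq_one_right (show a * a ^ (orderOf a - 1) = 1 by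
          rw [← pow_succ', Nat.sub_add_cancel (orderOf_pos a), pow_orderOf_eq_one])] at h1 }
  have hT : ∀ h, h ∈ T ↔ h ∈ I ∧ κ h ∈ s81L := fun _ => Iff.rfl
  obtain ⟨S, hS, hTc, -, -⟩ := M.exists_codes (L := T) fun h hh => M.I_le ((hT h).1 hh).1
  have hS81 : S = s81L.toFinset := by
    ext c
    rw [hS, List.mem_toFinset]
    refine ⟨by rintro ⟨u, hu, rfl⟩; exact ((hT u).1 hu).2, fun hc => ?_⟩
    obtain ⟨w, hwm, rfl⟩ := List.mem_map.1 (heq ▸ hc)
    obtain ⟨u, hu, hue⟩ := M.lift _ ⟨w, hw w hwm, rfl⟩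
    exact ⟨u, (hT u).2 ⟨hu, hue ▸ hc⟩, hue⟩
  rw [show A ⊓ T = A from inf_eq_left.2 fun a ha => (hT a).2 ⟨M.A_le ha, by rw [M.κ_A ha]; exact hidc⟩,
    M.cardA, hS81, List.toFinset_card_of_nodup hnd, hlen] at hTc
  obtain ⟨P0, hP0⟩ := Sylow.exists_subgroup_card_pow_prime 3 (n := 4)
    (show 3 ^ 4 ∣ Nat.card T by rw [hTc]; norm_num)
  obtain ⟨P, hP⟩ : ∃ P, P = P0.map T.subtype := ⟨_, rfl⟩
  have hPc : Nat.card P = 81 := by
    rw [hP, Subgroup.card_map_of_injective T.subtype_injective, hP0]; norm_num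
  have hPT : P ≤ T := hP ▸ Subgroup.map_subtype_le _
  have hdisj : A ⊓ P = ⊥ := by
    have h1 := Subgroup.card_dvd_of_le (inf_le_left : A ⊓ P ≤ A)
    have h2 := Subgroup.card_dvd_of_le (inf_le_right : A ⊓ P ≤ P)
    rw [M.cardA] at h1
    rw [hPc] at h2
    exact Subgroup.card_eq_one.1 (Nat.dvd_one.1 ((Nat.dvd_gcd h1 h2).trans (by norm_num)))
  obtain ⟨S', hS', hPc', -, -⟩ := M.exists_codes (L := P) fun h hh => M.I_le ((hT h).1 (hPT hh)).1
  rw [hdisj, Subgroup.card_bot, one_mul, hPc] at hPc'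
  have hS'81 : S' = s81L.toFinset := by
    refine Finset.eq_of_subset_of_card_le (fun c hc => ?_) (by rw [List.toFinset_card_of_nodup hnd, hlen, ← hPc'])
    obtain ⟨u, hu, rfl⟩ := (hS' c).1 hc
    exact List.mem_toFinset.2 ((hT u).1 (hPT hu)).2
  refine ⟨P, fun h hh => ((hT h).1 (hPT hh)).1, hPc, fun h hh => ((hT h).1 (hPT hh)).2, fun c hc => ?_, ?_⟩
  · exact (hS' c).1 (hS'81 ▸ List.mem_toFinset.2 hc)
  · intro h hh hA
    exact Subgroup.mem_bot.1 (hdisj ▸ (⟨hA, hh⟩ : h ∈ A ⊓ P))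

/-- Elements of order three fix at most sixteen vectors. -/
theorem fix_three {y : X} (hy : y ∈ H) (h3 : orderOf y = 3) :
    Nat.card ↥(A ⊓ Subgroup.centralizer ({y} : Set X)) ≤ 16 := by
  have : Fact (Nat.Prime 3) := ⟨Nat.prime_three⟩
  have hyI := M.mem_I_of_odd hy (h3 ▸ by decide)
  obtain ⟨P, hP, hPc, hPs, -, hPA⟩ := M.exists_syl
  obtain ⟨g, hg, hgy⟩ := M.conj_into (p := 3) (n := 4) (m := 81920) hP (by rw [hPc]; norm_num)
    (by rw [M.cardI]; norm_num) (by norm_num) hyI h3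
  refine (M.fix_conj_le (M.I_le hg)).trans ?_
  rw [M.card_fix (M.I_le (hP hgy))]
  have h := syl_fix
  simp only [List.all_eq_true, Bool.or_eq_true, nbeq_iff, Nat.ble_eq] at h
  refine (h _ (hPs _ hgy)).resolve_left fun e => ?_
  have h1 := hPA _ hgy (M.ker _ (M.I_le (hP hgy)) e)
  rw [conj_eq_one_iff] at h1
  rw [h1, orderOf_one] at h3
  omega

/-- Elements of order five fix one vector. -/
theorem fix_five {y : X} (hy : y ∈ H) (h5 : orderOf y = 5) :
    Nat.card ↥(A ⊓ Subgroup.centralizer ({y} : Set X)) ≤ 1 := by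
  have : Fact (Nat.Prime 5) := ⟨by norm_num⟩
  have hyI := M.mem_I_of_odd hy (h5 ▸ by decide)
  have hf := five_ok
  simp only [Bool.and_eq_true, List.all_eq_true, Nat.blt_eq, nbeq_iff, Bool.not_eq_true', Bool.eq_false_iff, Ne,
    beq_iff_eq] at hf
  obtain ⟨hw, hc5, hpow⟩ := hf
  obtain ⟨c, hcd⟩ : ∃ c, c = cw gensU fiveW := ⟨_, rfl⟩
  rw [← hcd] at hc5 hpow
  obtain ⟨h, hh, hhe⟩ := M.lift c ⟨fiveW, hw, hcd⟩
  have hH := M.I_le hh
  have hκ2 : κ (h * h) = cm c c := by rw [M.κ_mul h hH h hH, hhe]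
  have hA : h * (h * h * (h * h)) ∈ A := by
    refine M.ker _ (mul_mem hH (mul_mem (mul_mem hH hH) (mul_mem hH hH))) ?_
    rw [M.κ_mul h hH _ (mul_mem (mul_mem hH hH) (mul_mem hH hH)), M.κ_mul _ (mul_mem hH hH) _ (mul_mem hH hH), hκ2,
      hhe, hc5]
  obtain ⟨e, he⟩ : ∃ e, e = h * (h * (h * h * (h * h))) := ⟨_, rfl⟩
  have heI : e ∈ I := he ▸ mul_mem hh (M.A_le hA)
  have heκ : κ e = c := by rw [he, M.κ_mul h hH _ (M.A_le_H hA), M.κ_A hA, cm_idc (M.κ_lt h), hhe]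
  have he5 : e ^ 5 = 1 := by
    have e6 : e = h ^ 6 := by rw [he]; simp [pow_succ, mul_assoc]
    have e5 : h ^ 5 * h ^ 5 = 1 := by
      rw [show h ^ 5 = h * (h * h * (h * h)) by simp [pow_succ, mul_assoc]]
      exact M.invol _ hA
    rw [e6, ← pow_mul, show 6 * 5 = (5 + 5) + (5 + 5) + (5 + 5) from rfl]
    simp only [pow_add, e5, mul_one]
  have heo : orderOf e = 5 := orderOf_eq_prime he5 fun e1 => by
    rw [e1, M.κ_one] at heκ
    exact (hpow c (by simp)).1 heκ.symm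
  obtain ⟨g, hg, hgy⟩ := M.conj_into (p := 5) (n := 1) (m := 1327104) (P := Subgroup.zpowers e)
    (Subgroup.zpowers_le.2 heI) (by rw [Nat.card_zpowers, heo, pow_one]) (by rw [M.cardI]; norm_num) (by norm_num) hyI h5
  refine (M.fix_conj_le (M.I_le hg)).trans ?_
  obtain ⟨j, hj5, hj⟩ : ∃ j < 5, g * y * g⁻¹ = e ^ j := by
    obtain ⟨j, hj⟩ := (IsOfFinOrder.mem_powers_iff_mem_zpowers (isOfFinOrder_of_finite e)).2 hgy
    exact ⟨j % 5, Nat.mod_lt _ (by norm_num), by rw [← hj, ← heo, pow_mod_orderOf]⟩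
  have hj0 : j ≠ 0 := fun e0 => by
    rw [e0, pow_zero, conj_eq_one_iff] at hj
    rw [hj, orderOf_one] at h5
    omega
  rw [hj, M.card_fix (M.I_le (pow_mem heI j))]
  have heH := M.I_le heI
  have k2 : κ (e ^ 2) = cm c c := by rw [pow_two, M.κ_mul e heH e heH, heκ]
  have k3 : κ (e ^ 3) = cm c (cm c c) := by rw [pow_succ', M.κ_mul e heH _ (pow_mem heH 2), k2, heκ]
  have k4 : κ (e ^ 4) = cm (cm c c) (cm c c) := by
    rw [show (4 : ℕ) = 2 + 2 from rfl, pow_add, M.κ_mul _ (pow_mem heH 2) _ (pow_mem heH 2), k2]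
  interval_cases j
  · omega
  · rw [pow_one, heκ, (hpow c (by simp)).2]; rfl
  · rw [k2, (hpow _ (by simp)).2]; rfl
  · rw [k3, (hpow _ (by simp)).2]; rfl
  · rw [k4, (hpow _ (by simp)).2]; rfl

/-- The preimage of a listed subgroup, and that its centraliser lies in the normalizer. -/
theorem exists_b1 {k : ℕ} (hk : k < 2) :
    ∃ B1 : Subgroup X, B1 ≤ A ∧ (∀ a ∈ A, a ∈ B1 ↔ vc a ∈ b1L k) ∧
      Subgroup.centralizer (B1 : Set X) ≤ H := by
  classical
  have : Fact (Nat.Prime 3) := ⟨Nat.prime_three⟩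
  have hn := nine_ok
  simp only [nineChk, List.all_eq_true, List.mem_range, Bool.and_eq_true, Bool.or_eq_true, nbeq_iff, Nat.blt_eq,
    Nat.ble_eq, memB_iff, commB_iff] at hn
  obtain ⟨⟨⟨⟨⟨⟨⟨⟨hElen, hEm⟩, hEc⟩, hEn⟩, hEid⟩, hBlen⟩, hEfix⟩, hBadd⟩, hB0⟩ := hn k hk
  let B1 : Subgroup X :=
    { carrier := {a | a ∈ A ∧ vc a ∈ b1L k}
      one_mem' := ⟨one_mem _, by rw [M.vc_one]; exact hB0⟩
      mul_mem' := fun {a b} ha hb => ⟨mul_mem ha.1 hb.1, by
        rw [M.vc_mul a ha.1 b hb.1]; exact (hBadd _ ha.2).2 _ hb.2⟩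
      inv_mem' := fun {a} ha => by
        show a⁻¹ ∈ A ∧ vc a⁻¹ ∈ b1L k
        rw [M.inv_eq ha.1]; exact ha }
  have hB1 : ∀ a, a ∈ B1 ↔ a ∈ A ∧ vc a ∈ b1L k := fun _ => Iff.rfl
  have h32 : 32 ≤ Nat.card B1 := by
    refine hBlen.trans ?_
    refine M.le_card (nine_nodup k hk).2 fun v hv => ?_
    obtain ⟨a, ha, rfl⟩ := M.vc_surj (hBadd v hv).1
    exact ⟨a, ⟨ha, hv⟩, rfl⟩
  refine ⟨B1, fun a ha => ha.1, fun a ha => ⟨fun h => h.2, fun h => ⟨ha, h⟩⟩, ?_⟩
  obtain ⟨P, hP, hPc, hPs, hPl, hPA⟩ := M.exists_syl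
  let Mo : Submonoid X :=
    { carrier := {h | h ∈ P ∧ κ h ∈ eL k}
      one_mem' := ⟨one_mem _, by rw [M.κ_one]; exact hEid⟩
      mul_mem' := fun {a b} ha hb => ⟨mul_mem ha.1 hb.1, by
        rw [M.κ_mul a (M.I_le (hP ha.1)) b (M.I_le (hP hb.1))]; exact (hEc _ ha.2 _ hb.2).2⟩ }
  let E : Subgroup X :=
    { Mo with
      inv_mem' := fun {a} ha => by
        have h1 : a ^ (orderOf a - 1) ∈ Mo := pow_mem ha _
        rwa [← inv_eq_of_mul_eq_one_right (show a * a ^ (orderOf a - 1) = 1 by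
          rw [← pow_succ', Nat.sub_add_cancel (orderOf_pos a), pow_orderOf_eq_one])] at h1 }
  have hE : ∀ h, h ∈ E ↔ h ∈ P ∧ κ h ∈ eL k := fun _ => Iff.rfl
  have hEH : E ≤ H := fun h hh => M.I_le (hP ((hE h).1 hh).1)
  have hzero : ∀ u ∈ P, κ u = idc → u = 1 := fun u hu e => hPA u hu (M.ker u (M.I_le (hP hu)) e)
  have hE9 : Nat.card E = 9 := by
    obtain ⟨S, hS, hc, -, -⟩ := M.exists_codes (L := E) hEH
    rw [show A ⊓ E = ⊥ from (Subgroup.eq_bot_iff_forall _).2 fun a ha => hPA a ((hE a).1 ha.2).1 ha.1,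
      Subgroup.card_bot, one_mul] at hc
    rw [hc, ← hElen, ← List.toFinset_card_of_nodup (nine_nodup k hk).1]
    congr 1
    ext c
    rw [hS, List.mem_toFinset]
    refine ⟨by rintro ⟨u, hu, rfl⟩; exact ((hE u).1 hu).2, fun hcE => ?_⟩
    obtain ⟨u, hu, rfl⟩ := hPl c (hEm c hcE).1
    exact ⟨u, (hE u).2 ⟨hu, hcE⟩, rfl⟩
  have hcomm : ∀ a ∈ E, ∀ b ∈ E, a * b = b * a := by
    intro a ha b hb
    have haH := hEH ha
    have hbH := hEH hb
    have h1 := hzero ((b * a)⁻¹ * (a * b))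
      (mul_mem (inv_mem (mul_mem ((hE b).1 hb).1 ((hE a).1 ha).1)) (mul_mem ((hE a).1 ha).1 ((hE b).1 hb).1))
      (M.κ_A ((M.κ_eq_iff (mul_mem hbH haH) (mul_mem haH hbH)).1 (by
        rw [M.κ_mul b hbH a haH, M.κ_mul a haH b hbH]; exact (hEc _ ((hE b).1 hb).2 _ ((hE a).1 ha).2).1)))
    exact (inv_mul_eq_one.1 h1).symm
  have hexp : ∀ a ∈ E, a ^ 3 = 1 := by
    intro a ha
    have haH := hEH ha
    refine hzero _ (pow_mem ((hE a).1 ha).1 3) ?_
    rw [pow_succ', pow_two, M.κ_mul a haH _ (mul_mem haH haH), M.κ_mul a haH a haH]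
    exact (hEm _ ((hE a).1 ha).2).2
  have hnorm : ∀ e ∈ E, ∀ a ∈ B1, e * a * e⁻¹ ∈ B1 := by
    intro e he a ha
    refine ⟨M.normal (hEH he) ha.1, ?_⟩
    rw [M.act e (hEH he) a ha.1]
    refine (spanL_ind (P := fun v => v < 256 ∧ ap (κ e) v ∈ b1L k) ⟨by norm_num, by rw [ap_zero]; exact hB0⟩
      (fun p q hp hq => ⟨xor_lt hp.1 hq.1, by rw [ap_xor]; exact (hBadd _ hp.2).2 _ hq.2⟩) (fun g hg => ⟨?_, ?_⟩)
      _ ha.2).2
    · have hb : ((List.range 2).all fun k => (bBas.getD k []).all fun g => Nat.blt g 256) = true := by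
        decide +kernel
      simp only [List.all_eq_true, List.mem_range, Nat.blt_eq] at hb
      exact hb k hk g hg
    · exact hEn _ ((hE e).1 he).2 g hg
  have hfix : ∀ e ∈ E, e ≠ 1 → ∃ a ∈ A, a ≠ 1 ∧ e * a = a * e := by
    intro e he he1
    have hlt := (hEfix _ ((hE e).1 he).2).resolve_left fun h => he1 (hzero e ((hE e).1 he).1 h)
    rw [← M.card_fix (hEH he)] at hlt
    have := Finite.one_lt_card_iff_nontrivial.1 hlt
    obtain ⟨⟨a, ha, hc⟩, hne⟩ := exists_ne (1 : ↥(A ⊓ Subgroup.centralizer ({e} : Set X)))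
    exact ⟨a, ha, fun h => hne (Subtype.ext h), (Subgroup.mem_centralizer_singleton_iff.1 hc).symm⟩
  set C1 := Subgroup.centralizer (B1 : Set X) with hC1
  have hnormC1 : E ≤ Subgroup.normalizer (C1 : Set X) := by
    intro e he
    have key : ∀ f ∈ E, ∀ c ∈ C1, f * c * f⁻¹ ∈ C1 := by
      intro f hf c hc
      refine Subgroup.mem_centralizer_iff.2 fun z hz => ?_
      have hz' : f⁻¹ * z * f ∈ B1 := by simpa using hnorm f⁻¹ (inv_mem hf) z hz
      have := Subgroup.mem_centralizer_iff.1 hc _ hz'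
      calc z * (f * c * f⁻¹) = f * ((f⁻¹ * z * f) * c) * f⁻¹ := by group
        _ = f * (c * (f⁻¹ * z * f)) * f⁻¹ := by rw [this]
        _ = f * c * f⁻¹ * z := by group
    rw [Subgroup.mem_normalizer_iff]
    refine fun c => ⟨key e he c, fun hc => ?_⟩
    have := key e⁻¹ (inv_mem he) _ hc
    simpa [mul_assoc] using this
  have h3' : ¬ 3 ∣ Nat.card C1 := by
    intro h3
    set L := C1 ⊔ E with hL
    have hE3 : IsPGroup 3 (E.subgroupOf L) := by
      refine IsPGroup.of_equiv ?_ (Subgroup.subgroupOfEquivOfLe le_sup_right).symm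
      exact IsPGroup.iff_card.2 ⟨2, by rw [hE9]; norm_num⟩
    obtain ⟨Q0, hQ0⟩ := hE3.exists_le_sylow
    obtain ⟨e, he1⟩ : ∃ e : ↥E, e ≠ 1 := by
      have : Nontrivial ↥E := Finite.one_lt_card_iff_nontrivial.1 (by rw [hE9]; norm_num)
      exact exists_ne 1
    have he3 : orderOf (e : X) = 3 := orderOf_eq_prime (hexp _ e.2) fun h => he1 (Subtype.ext h)
    obtain ⟨⟨y, hy⟩, hy3⟩ := exists_prime_orderOf_dvd_card' 3 h3
    rw [Subgroup.orderOf_mk] at hy3
    have hyL : y ∈ L := le_sup_left (b := E) hy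
    have hyp : IsPGroup 3 (Subgroup.zpowers (⟨y, hyL⟩ : ↥L)) :=
      IsPGroup.iff_card.2 ⟨1, by rw [Nat.card_zpowers, Subgroup.orderOf_mk, hy3, pow_one]⟩
    obtain ⟨Q, hQ⟩ := hyp.exists_le_sylow
    obtain ⟨l, hl⟩ := MulAction.exists_smul_eq ↥L Q Q0
    have hLn : L ≤ Subgroup.normalizer (C1 : Set X) := sup_le Subgroup.le_normalizer hnormC1
    have hz : l * ⟨y, hyL⟩ * l⁻¹ ∈ (Q0 : Subgroup ↥L) := by
      rw [← hl]
      exact ⟨⟨y, hyL⟩, hQ (Subgroup.mem_zpowers _), rfl⟩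
    -- the part in the centraliser meets the centre of the Sylow subgroup
    haveI hn : ((C1.subgroupOf L).subgroupOf (Q0 : Subgroup ↥L)).Normal :=
      ⟨fun n hn g => (Subgroup.mem_normalizer_iff.1 (hLn (g : ↥L).2) _).1 hn⟩
    have hne : (C1.subgroupOf L).subgroupOf (Q0 : Subgroup ↥L) ≠ ⊥ := fun h => by
      have hm : (⟨_, hz⟩ : (Q0 : Subgroup ↥L)) ∈ (C1.subgroupOf L).subgroupOf (Q0 : Subgroup ↥L) :=
        (Subgroup.mem_normalizer_iff.1 (hLn l.2) y).1 hy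
      rw [h, Subgroup.mem_bot] at hm
      have e1 : (l : X) * y * (l : X)⁻¹ = 1 :=
        congrArg (fun q : (Q0 : Subgroup ↥L) => ((q : ↥L) : X)) hm
      rw [conj_eq_one_iff] at e1
      rw [e1, orderOf_one] at hy3
      omega
    obtain ⟨D, hD⟩ : ∃ D, D = (C1.subgroupOf L).subgroupOf (Q0 : Subgroup ↥L) ⊓ Subgroup.center (Q0 : Subgroup ↥L) :=
      ⟨_, rfl⟩
    have hDne : D ≠ ⊥ := hD ▸ Cfsg.Lib.PGroup.inf_center_ne_bot Q0.isPGroup' hne
    have hd3 : 3 ∣ Nat.card D := by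
      obtain ⟨n, hn⟩ := IsPGroup.iff_card.1 (Q0.isPGroup'.to_subgroup D)
      rcases n with _ | n
      · exact absurd (Subgroup.card_eq_one.1 (hn.trans (pow_zero 3))) hDne
      · rw [hn]; exact dvd_pow_self 3 (Nat.succ_ne_zero n)
    obtain ⟨⟨w, hw⟩, hw3⟩ := exists_prime_orderOf_dvd_card' 3 hd3
    rw [Subgroup.orderOf_mk] at hw3
    rw [hD] at hw
    have hw3' : orderOf (((w : ↥L) : X)) = 3 := by rw [Subgroup.orderOf_coe, Subgroup.orderOf_coe, hw3]
    have hwe : ((w : ↥L) : X) * e = e * ((w : ↥L) : X) :=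
      (congrArg (fun q : (Q0 : Subgroup ↥L) => ((q : ↥L) : X))
        (Subgroup.mem_center_iff.1 hw.2 ⟨⟨e, le_sup_right (a := C1) e.2⟩, hQ0 (Subgroup.mem_subgroupOf.2 e.2)⟩)).symm
    have hwH : ((w : ↥L) : X) ∈ H :=
      M.mem_of_commute_three (hEH e.2) he3 (hfix _ e.2 fun h => he1 (Subtype.ext h)) hwe
    have h1 := M.fix_three hwH hw3'
    have h2 : B1 ≤ A ⊓ Subgroup.centralizer ({((w : ↥L) : X)} : Set X) := fun a ha =>
      ⟨ha.1, Subgroup.mem_centralizer_singleton_iff.2 (Subgroup.mem_centralizer_iff.1 hw.1 a ha)⟩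
    have := Subgroup.card_le_of_le h2
    omega
  exact M.le_of_nine hEH hE9 hcomm hexp hfix hnormC1 h3'

/-- Hyperplanes. -/
theorem hyperplane {B : Subgroup X} (hBA : B ≤ A) (hB : Nat.card B = 128) :
    Subgroup.centralizer (B : Set X) ≤ H := by
  classical
  obtain ⟨f, hf⟩ : ∃ f : ℕ → ℕ, ∀ v, f v = if ∃ a ∈ B, vc a = v then 0 else 1 := ⟨_, fun _ => rfl⟩
  have hf2 : ∀ v, f v < 2 := fun v => by rw [hf]; split <;> norm_num
  have hidx : (B.subgroupOf A).index = 2 := by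
    have h1 := Subgroup.card_mul_index (B.subgroupOf A)
    rw [Nat.card_congr (Subgroup.subgroupOfEquivOfLe hBA).toEquiv, hB, M.cardA] at h1
    omega
  have hmemB : ∀ a ∈ A, f (vc a) = 0 ↔ a ∈ B := by
    intro a ha
    rw [hf]
    constructor
    · intro h
      split at h
      · next hex =>
        obtain ⟨b, hb, hbe⟩ := hex
        exact M.vc_inj (hBA hb) ha hbe ▸ hb
      · omega
    · intro h
      rw [if_pos ⟨a, h, rfl⟩]
  have hadd : ∀ u < 256, ∀ v < 256, f (u ^^^ v) = f u ^^^ f v := by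
    intro u hu v hv
    obtain ⟨a, ha, rfl⟩ := M.vc_surj hu
    obtain ⟨b, hb, rfl⟩ := M.vc_surj hv
    rw [← M.vc_mul a ha b hb]
    have h1 := Subgroup.mul_mem_iff_of_index_two hidx (a := ⟨a, ha⟩) (b := ⟨b, hb⟩)
    simp only [Subgroup.mem_subgroupOf, Subgroup.coe_mul] at h1
    rw [← hmemB _ (mul_mem ha hb), ← hmemB a ha, ← hmemB b hb] at h1
    have := hf2 (vc a)
    have := hf2 (vc b)
    have := hf2 (vc (a * b))
    interval_cases f (vc a) <;> interval_cases f (vc b) <;> interval_cases f (vc (a * b)) <;> simp at h1 ⊢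
  have hcode : ∀ v < 256, ap (mkc fun i => f (2 ^ i)) v = f v := fun v hv =>
    exists_code (fun w _ => lt_trans (hf2 w) (by norm_num)) hadd hv
  obtain ⟨hm, hmb⟩ := bitsOf_spec (f := fun i => f (2 ^ i)) fun i => hf2 _
  obtain ⟨m, hmd⟩ : ∃ m, m = bitsOf fun i => f (2 ^ i) := ⟨_, rfl⟩
  rw [← hmd] at hm hmb
  have hfun : funC m = mkc fun i => f (2 ^ i) := mkc_congr fun i hi => hmb i hi
  have hm0 : m ≠ 0 := by
    intro e
    have hall : A ≤ B := fun a ha => (hmemB a ha).1 (by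
      rw [← hcode _ (M.vc_lt a), ← hfun, e]
      have : funC 0 = 0 := by decide +kernel
      rw [this]
      simp [ap, byte])
    have := Subgroup.card_le_of_le hall
    rw [M.cardA, hB] at this
    omega
  have hh := hyp_ok
  simp only [hypChk, List.all_eq_true, List.mem_range, Bool.or_eq_true, Bool.and_eq_true, nbeq_iff, Nat.blt_eq]
    at hh
  obtain ⟨⟨hk, hw⟩, hg⟩ := (hh m hm).resolve_left hm0
  obtain ⟨h, hhI, hhe⟩ := M.lift _ ⟨_, hw, rfl⟩
  have hH := M.I_le hhI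
  obtain ⟨B1, hB1A, hB1m, hC1⟩ := M.exists_b1 hk
  have hb256 : ((List.range 2).all fun k => (bBas.getD k []).all fun g => Nat.blt g 256) = true := by
    decide +kernel
  simp only [List.all_eq_true, List.mem_range, Nat.blt_eq] at hb256
  have hsub : ∀ a ∈ B1, h * a * h⁻¹ ∈ B := by
    intro a ha
    refine (hmemB _ (M.normal hH (hB1A ha))).1 ?_
    rw [M.act h hH a (hB1A ha), ← hcode _ (ap_lt _ _), ← hfun, hhe]
    exact spanL_ind (P := fun v => ap (funC m) (ap (cw gensU (hypW.getD m (0, [])).2) v) = 0)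
      (by rw [ap_zero, ap_zero]) (fun p q hp hq => by rw [ap_xor, ap_xor, hp, hq, Nat.xor_self]) hg _
      ((hB1m a (hB1A ha)).1 ha)
  intro g hgB
  have hc : h⁻¹ * g * h ∈ Subgroup.centralizer (B1 : Set X) := by
    refine Subgroup.mem_centralizer_iff.2 fun z hz => ?_
    have := Subgroup.mem_centralizer_iff.1 hgB _ (hsub z hz)
    calc z * (h⁻¹ * g * h) = h⁻¹ * (h * z * h⁻¹ * g) * h := by group
      _ = h⁻¹ * (g * (h * z * h⁻¹)) * h := by rw [this]
      _ = h⁻¹ * g * h * z := by group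
  have := mul_mem (mul_mem hH (hC1 hc)) (inv_mem hH)
  rwa [show h * (h⁻¹ * g * h) * h⁻¹ = g by group] at this

end UMod

namespace Step

variable [Finite X] {A I H B : Subgroup X} {vc κ : X → ℕ} (t : Step A I H vc κ B)
include t

theorem orbit_dvd {a : X} (ha : a ∈ A) (haB : a ∉ B)
    (htrans : ∀ b ∈ A, b ∉ B → ∃ m ∈ Subgroup.centralizer (B : Set X) ⊓ H, m * a * m⁻¹ * b⁻¹ ∈ B) :
    (Nat.card A / Nat.card B - 1) ∣ Nat.card ↥(Subgroup.centralizer (B : Set X) ⊓ H) := by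
  set M := Subgroup.centralizer (B : Set X) ⊓ H with hM
  let B' := B.subgroupOf A
  have hnormal : B'.Normal := ⟨fun n hn z => by
    rwa [show z * n * z⁻¹ = n from Subtype.ext (by
      show (z : X) * n * (z : X)⁻¹ = n
      rw [t.comm _ z.2 _ n.2, mul_inv_cancel_right])]⟩
  have hBconj : ∀ m ∈ M, ∀ x : X, x ∈ B → m * x * m⁻¹ = x := fun m hm x hx => by
    rw [← Subgroup.mem_centralizer_iff.1 hm.1 x hx, mul_inv_cancel_right]
  let St : Subgroup ↥M :=
    { carrier := {m | (m : X) * a * (m : X)⁻¹ * a⁻¹ ∈ B}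
      one_mem' := by simp
      mul_mem' := by
        intro m n hm hn
        show (m : X) * n * a * ((m : X) * n)⁻¹ * a⁻¹ ∈ B
        have : (m : X) * n * a * ((m : X) * n)⁻¹ * a⁻¹ =
            ((m : X) * ((n : X) * a * (n : X)⁻¹ * a⁻¹) * (m : X)⁻¹) * ((m : X) * a * (m : X)⁻¹ * a⁻¹) := by
          group
        rw [this, hBconj m m.2 _ hn]
        exact mul_mem hn hm
      inv_mem' := by
        intro m hm
        show (m : X)⁻¹ * a * ((m : X)⁻¹)⁻¹ * a⁻¹ ∈ B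
        have h1 : ((m : X) * a * (m : X)⁻¹ * a⁻¹)⁻¹ ∈ B := B.inv_mem hm
        have h2 := hBconj (m⁻¹ : ↥M) (m⁻¹ : ↥M).2 _ h1
        have e : (m : X)⁻¹ * a * ((m : X)⁻¹)⁻¹ * a⁻¹ =
            (m : X)⁻¹ * ((m : X) * a * (m : X)⁻¹ * a⁻¹)⁻¹ * ((m : X)⁻¹)⁻¹ := by group
        rw [e]
        rw [Subgroup.coe_inv] at h2
        rw [h2]
        exact h1 }
  let f0 : ↥M → ↥A ⧸ B' := fun m => ((⟨(m : X) * a * (m : X)⁻¹, t.toUMod.normal m.2.2 ha⟩ : ↥A) : ↥A ⧸ B')
  have hf0 : ∀ m n : ↥M, f0 m = f0 n ↔ m⁻¹ * n ∈ St := by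
    intro m n
    rw [QuotientGroup.eq, Subgroup.mem_subgroupOf]
    show ((m : X) * a * (m : X)⁻¹)⁻¹ * ((n : X) * a * (n : X)⁻¹) ∈ B ↔
      (m : X)⁻¹ * n * a * ((m : X)⁻¹ * n)⁻¹ * a⁻¹ ∈ B
    have e1 : (m : X)⁻¹ * n * a * ((m : X)⁻¹ * n)⁻¹ * a⁻¹ =
        (m : X)⁻¹ * (((n : X) * a * (n : X)⁻¹) * ((m : X) * a * (m : X)⁻¹)⁻¹) * m := by group
    have hna := t.toUMod.normal n.2.2 ha
    have hma := t.toUMod.normal m.2.2 ha
    rw [e1, t.comm _ hna _ (inv_mem hma)]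
    constructor
    · intro h
      have := hBconj (m⁻¹ : ↥M) (m⁻¹ : ↥M).2 _ h
      rw [Subgroup.coe_inv, inv_inv] at this
      rwa [this]
    · intro h
      have h2 := hBconj m m.2 _ h
      have e2 : ∀ w : X, (m : X) * ((m : X)⁻¹ * w * m) * (m : X)⁻¹ = w := fun w => by group
      rw [e2] at h2
      rw [h2]
      exact h
  let F : ↥M ⧸ St → {q : ↥A ⧸ B' // q ≠ 1} :=
    Quotient.lift (fun m : ↥M => (⟨f0 m, fun h => haB (by
      have h1 : ((m : X) * a * (m : X)⁻¹) ∈ B :=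
        Subgroup.mem_subgroupOf.1 ((QuotientGroup.eq_one_iff _).1 h)
      have h2 := hBconj (m⁻¹ : ↥M) (m⁻¹ : ↥M).2 _ h1
      rw [Subgroup.coe_inv, inv_inv, show (m : X)⁻¹ * ((m : X) * a * (m : X)⁻¹) * m = a by group] at h2
      exact h2 ▸ h1)⟩ : {q : ↥A ⧸ B' // q ≠ 1}))
      (fun m n h => Subtype.ext ((hf0 m n).2 (QuotientGroup.leftRel_apply.1 h)))
  have hbij : Function.Bijective F := by
    constructor
    · intro x y
      induction x using Quotient.inductionOn with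
      | h m =>
        induction y using Quotient.inductionOn with
        | h n => intro h; exact QuotientGroup.eq.2 ((hf0 m n).1 (congrArg Subtype.val h))
    · rintro ⟨q, hq⟩
      induction q using QuotientGroup.induction_on with
      | H b =>
        have hbB : (b : X) ∉ B := fun h => hq ((QuotientGroup.eq_one_iff _).2 h)
        obtain ⟨m, hm, hmb⟩ := htrans b b.2 hbB
        refine ⟨Quotient.mk'' ⟨m, hm⟩, Subtype.ext ?_⟩
        show f0 ⟨m, hm⟩ = (b : ↥A ⧸ B')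
        rw [QuotientGroup.eq, Subgroup.mem_subgroupOf]
        show (m * a * m⁻¹)⁻¹ * (b : X) ∈ B
        have h1 := inv_mem hmb
        rw [mul_inv_rev, inv_inv, t.comm _ b.2 _ (inv_mem (t.toUMod.normal hm.2 ha))] at h1
        exact h1
  have hindex : St.index = Nat.card A / Nat.card B - 1 := by
    rw [Subgroup.index_eq_card, Nat.card_eq_of_bijective F hbij]
    classical
    have := Fintype.ofFinite (↥A ⧸ B')
    rw [Nat.card_eq_fintype_card, Fintype.card_subtype_compl, Fintype.card_subtype_eq,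
      ← Nat.card_eq_fintype_card]
    congr 1
    have h1 := Subgroup.card_mul_index B'
    rw [Nat.card_congr (Subgroup.subgroupOfEquivOfLe t.B_le).toEquiv, Subgroup.index_eq_card] at h1
    exact (Nat.div_eq_of_eq_mul_right Nat.card_pos h1.symm).symm
  rw [← hindex]
  exact Subgroup.index_dvd_card St

theorem exists_prime_element {p : ℕ} (hp : p.Prime)
    (hdvd : p ∣ Nat.card ↥(Subgroup.centralizer (B : Set X) ⊓ H)) :
    ∃ y ∈ H, orderOf y = p ∧ Nat.card B ≤ Nat.card ↥(A ⊓ Subgroup.centralizer ({y} : Set X)) := by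
  have : Fact p.Prime := ⟨hp⟩
  obtain ⟨⟨y, hy⟩, hord⟩ := exists_prime_orderOf_dvd_card' p hdvd
  rw [Subgroup.orderOf_mk] at hord
  exact ⟨y, hy.2, hord, Subgroup.card_le_of_le (le_inf t.B_le fun b hb =>
    Subgroup.mem_centralizer_singleton_iff.2 (Subgroup.mem_centralizer_iff.1 hy.1 b hb))⟩

theorem dvd_cases : ∀ n : ℕ, n < 9 → 1 ≤ n → (2 ^ n - 1) ∣ 512 * 25920 → n = 1 ∨ n = 2 ∨ n = 4 := by
  intro n h1 h2 h3
  interval_cases n <;> simp_all (config := { decide := true })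

/-- The induction step. -/
theorem centralizer_le : Subgroup.centralizer (B : Set X) ≤ H := by
  have M := t.toUMod
  obtain ⟨b, hb8, hb⟩ : ∃ b ≤ 8, Nat.card B = 2 ^ b := by
    have := Subgroup.card_dvd_of_le t.B_le
    rw [t.cardA, show (256 : ℕ) = 2 ^ 8 by norm_num] at this
    exact (Nat.dvd_prime_pow Nat.prime_two).1 this
  by_cases hB8 : b = 8
  · have : B = A := Subgroup.eq_of_le_of_card_ge t.B_le (by rw [hb, hB8, t.cardA]; norm_num)
    rw [this, t.hH]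
    exact Subgroup.centralizer_le_normalizer _
  by_cases hB7 : b = 7
  · exact M.hyperplane t.B_le (by rw [hb, hB7]; norm_num)
  rcases t.le_or_transitive with h | ⟨a, ha, haB, htr⟩
  · exact h
  exfalso
  have hdvd := t.orbit_dvd ha haB htr
  rw [t.cardA, hb, show (256 : ℕ) = 2 ^ 8 by norm_num, Nat.pow_div hb8 (by norm_num)] at hdvd
  have hd2 := hdvd.trans ((Subgroup.card_dvd_of_le inf_le_right).trans M.card_H_dvd)
  rcases t.dvd_cases (8 - b) (by omega) (by omega) hd2 with h | h | h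
  · omega
  · obtain ⟨y, hy, hord, hle⟩ := t.exists_prime_element Nat.prime_three
      ((show 3 ∣ 2 ^ (8 - b) - 1 by rw [h]; decide).trans hdvd)
    have := hle.trans (M.fix_three hy hord)
    rw [hb, show b = 6 by omega] at this
    norm_num at this
  · obtain ⟨y, hy, hord, hle⟩ := t.exists_prime_element (p := 5) (by norm_num)
      ((show 5 ∣ 2 ^ (8 - b) - 1 by rw [h]; decide).trans hdvd)
    have := hle.trans (M.fix_five hy hord)
    rw [hb, show b = 4 by omega] at this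
    norm_num at this

end Step

theorem UMod.eq_top [Finite X] {A I H : Subgroup X} {vc κ : X → ℕ} (M : UMod A I H vc κ) : H = ⊤ := by
  have key : ∀ B : Subgroup X, B ≤ A → Subgroup.centralizer (B : Set X) ≤ H := by
    intro B
    induction B using WellFoundedGT.induction with
    | ind B ih =>
      intro hBA
      exact Step.centralizer_le (B := B) { toUMod := M, B_le := hBA, above := fun B' h h' => ih B' h h' }
  refine eq_top_iff.2 ((?_ : (⊤ : Subgroup X) ≤ _).trans (key ⊥ bot_le))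
  intro x _
  simp [Subgroup.mem_centralizer_iff]

end Cfsg.Lib.U62Core
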