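import Cfsg.Agent.Lib.U62Core.Induct
import Cfsg.Agent.Lib.U62Type.OuterSetup

/-!
# An extraspecial group of order 2⁹ with PSp₄(3) on it is normal when the 3-centralisers normalise it
-/

set_option autoImplicit false
set_option linter.unusedSectionVars false
set_option linter.style.haveILetI false

namespace Cfsg.Lib.U62Core

open Cfsg.Lib.U62Type

theorem commutant {k : ℕ} (hk : k < 2 ^ 64) (h : ∀ i < 4, cm k (gensU.getD i 0) = cm (gensU.getD i 0) k) :
    k ∈ [0, idc, omC, cm omC omC] := by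
  have hc := cand_U
  simp only [candChk, Bool.and_eq_true, List.all_eq_true, Bool.or_eq_true, List.mem_range, nbeq_iff, Nat.blt_eq]
    at hc
  obtain ⟨⟨hex, hst⟩, -, -⟩ := hc
  have hword : ∀ w : List ℕ, (∀ a ∈ w, a < 4) → cm k (cw gensU w) = cm (cw gensU w) k := by
    intro w hw
    induction w with
    | nil => rw [cw_nil, cm_idc hk, idc_cm hk]
    | cons a w ih =>
      rw [cw_cons, ← cm_assoc, h a (hw a List.mem_cons_self), cm_assoc,
        ih fun b hb => hw b (List.mem_cons_of_mem _ hb), cm_assoc]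
  have he : ∀ i < 8, exVal gensU [ap k 1, 0, 0] (exprU.getD i []) = ap k (2 ^ i) := by
    intro i hi
    obtain ⟨e, he⟩ := hex i hi
    rw [← e]
    refine (exVal_map _ fun p hp => ?_).symm
    have hp' : p ∈ exprU.getD i [] := hp
    have hp0 : p.1 = 0 := by
      by_cases hlt : i < exprU.length
      · rw [List.getD_eq_getElem _ _ hlt] at hp'
        exact exprU_zero _ (List.getElem_mem _) p hp'
      · rw [List.getD_eq_default _ _ (not_lt.1 hlt)] at hp'; simp at hp'
    rw [hp0]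
    show ap k (ap (cw gensU p.2) 1) = ap (cw gensU p.2) (ap k 1)
    rw [← ap_cm, hword p.2 (he p hp).2, ap_cm]
  have hmk : (mkc fun i => exVal gensU [ap k 1, 0, 0] (exprU.getD i [])) = k := by
    conv_rhs => rw [← mkc_byte hk]
    exact mkc_congr fun i hi => by rw [he i hi, ap_pow hi]
  have hs := scalar_ok
  simp only [scalarChk, Bool.and_eq_true, List.all_eq_true, Bool.or_eq_true, vecs, List.mem_range,
    Bool.not_eq_true', Bool.eq_false_iff, Ne, nbeq_iff, memB_iff, commB_iff] at hs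
  have hstab : ∀ w ∈ stbU, ap (cw gensU w) (ap k 1) = ap k 1 := by
    intro w hw
    obtain ⟨hw4, hw1⟩ := hst w hw
    rw [← ap_cm, ← hword w hw4, ap_cm]
    exact congrArg (ap k) hw1
  have := hs.2 (ap k 1) (ap_lt _ _)
  rw [hmk] at this
  rcases this with e | e | e
  exacts [absurd hstab e, absurd h e, e]

theorem semilinear_out {k : ℕ} (hk : k ∈ outU) (hlt : k < 2 ^ 64) :
    cm k omC = cm (cm omC omC) k := by
  have hs := scalar_ok
  simp only [scalarChk, Bool.and_eq_true, List.all_eq_true, nbeq_iff] at hs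
  have h := hs.1.2 k hk
  have g3 : cm (gensU.getD 3 0) (gensU.getD 3 0) = idc := by decide +kernel
  have hw : WordCode gensU (gensU.getD 3 0) := wordCode_gen (C := cfgU) List.mem_cons_self (by norm_num)
  have e : k = cm (oC cfgU k) (gensU.getD 3 0) := by
    show k = cm (cm k (gensU.getD 3 0)) (gensU.getD 3 0)
    rw [cm_assoc, g3, cm_idc hlt]
  conv_lhs => rw [e, cm_assoc, omega_comm hw, ← cm_assoc, h, cm_assoc]
  rw [← e]

theorem omC_not_central {c : ℕ} (hc : c ∈ [omC, cm omC omC]) : c ∉ ceL gensU 0 := by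
  have hs := scalar_ok
  simp only [scalarChk, Bool.and_eq_true, Bool.not_eq_true', Bool.eq_false_iff, Ne, memB_iff] at hs
  simp only [List.mem_cons, List.not_mem_nil, or_false] at hc
  rcases hc with rfl | rfl
  exacts [hs.1.1.1.2, hs.1.1.2]

/-- The extraspecial group is normal. -/
theorem normalizer_eq_top {K : Type*} [Group K] [Finite K] (t : K) (ht : orderOf t = 2)
    (hcen : ∀ g : K, g * t = t * g) (R : Subgroup K) (htR : t ∈ R) (hR : Cfsg.IsExtraspecial 2 R)
    (hRc : Nat.card R = 2 ^ 9) (hCR : Subgroup.centralizer (R : Set K) ≤ R)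
    (N0 : Subgroup K) (hRN : R ≤ N0) (hN0 : N0 ≤ Subgroup.normalizer (R : Set K))
    [(R.subgroupOf N0).Normal] {F : Type*} [Field F] [Fintype F] (hF : Fintype.card F = 3)
    (e : (↥N0 ⧸ R.subgroupOf N0) ≃* Cfsg.PSp 2 F)
    (hidx : Nat.card ↥(Subgroup.normalizer (R : Set K)) ≤ 2 * Nat.card N0)
    (hfree : ∀ r ∈ R, (∀ n ∈ N0, n * r * n⁻¹ * r⁻¹ ∈ Subgroup.zpowers t) → r ∈ Subgroup.zpowers t)
    (h3 : ∀ y ∈ Subgroup.normalizer (R : Set K), orderOf y = 3 →
      (∃ r ∈ R, r ∉ Subgroup.zpowers t ∧ Commute y r) →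
      Subgroup.centralizer ({y} : Set K) ≤ Subgroup.normalizer (R : Set K)) :
    Subgroup.normalizer (R : Set K) = ⊤ := by
  classical
  haveI : Fact (Nat.Prime 2) := ⟨Nat.prime_two⟩
  haveI : Fact (Nat.Prime 3) := ⟨Nat.prime_three⟩
  haveI : CharP F 3 := charP_of_card_eq_prime (R := F) hF
  have ht2 : t * t = 1 := by rw [← pow_two, ← ht, pow_orderOf_eq_one]
  have ht1 : t ≠ 1 := fun h => by rw [h, orderOf_one] at ht; omega
  obtain ⟨N, hN⟩ : ∃ N, N = Subgroup.normalizer (R : Set K) := ⟨_, rfl⟩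
  rw [← hN] at hN0 hidx h3 ⊢
  have hRle : R ≤ N := hRN.trans hN0
  have hnormR : ∀ h ∈ N, ∀ r ∈ R, h * r * h⁻¹ ∈ R := fun h hh r hr => by
    rw [hN, Subgroup.mem_normalizer_iff] at hh
    exact (hh r).1 hr
  -- the extraspecial group inside its normalizer
  let z : N := ⟨t, hRle htR⟩
  have hz : ∀ h : N, Commute h z := fun h => Subtype.ext (hcen h)
  have hExt : Ext z (R.subgroupOf N) := by
    obtain ⟨c, hS, hc⟩ := Cfsg.Lib.Extraspecial.exists_setting hR
    have htc : (⟨t, htR⟩ : R) ∈ Subgroup.center R := Subgroup.mem_center_iff.2 fun j => Subtype.ext (hcen j)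
    have hceq : c = ⟨t, htR⟩ := by
      have h1 : (⟨t, htR⟩ : R) ∈ Subgroup.zpowers c :=
        hc.2 _ (Subgroup.mem_top _) fun w _ => (Subgroup.mem_center_iff.1 htc w).symm
      obtain ⟨k, hk, hk'⟩ := hS.exists_pow h1
      interval_cases k
      · exfalso
        rw [pow_zero] at hk'
        exact ht1 (congrArg Subtype.val hk').symm
      · rwa [pow_one] at hk'
    subst hceq
    refine ⟨Subtype.ext ht2, fun h => ht1 (congrArg Subtype.val h), htR, fun j _ => hz j, ?_, ?_, ?_, ?_, ?_, ?_⟩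
    · rw [Nat.card_congr (Subgroup.subgroupOfEquivOfLe hRle).toEquiv, hRc]; norm_num
    · intro h _ j hj
      exact hnormR h h.2 j hj
    · intro j hj hk
      have h1 : (⟨j, hj⟩ : R) ∈ Subgroup.center R := Subgroup.mem_center_iff.2 fun k =>
        Subtype.ext (congrArg (fun x : N => (x : K)) (hk ⟨k, hRle k.2⟩ k.2).eq.symm :)
      replace h1 := hc.2 _ (Subgroup.mem_top _) fun w _ => (Subgroup.mem_center_iff.1 h1 w).symm
      obtain ⟨k, hk2, hk'⟩ := hS.exists_pow h1
      interval_cases k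
      · left; rw [pow_zero] at hk'
        exact Subtype.ext (congrArg Subtype.val hk').symm
      · right; rw [pow_one] at hk'
        exact Subtype.ext (congrArg (fun r : R => (r : K)) hk').symm
    · intro j hj
      rcases hS.pow_two_cases (⟨j, hj⟩ : R) with h | h <;> rw [pow_two] at h
      exacts [Or.inl (Subtype.ext (congrArg (fun r : R => (r : K)) h)),
        Or.inr (Subtype.ext (congrArg (fun r : R => (r : K)) h))]
    · intro j hj k hk
      obtain ⟨n, hn, hn'⟩ := hS.exists_pow (hS.comm (⟨j, hj⟩ : R) ⟨k, hk⟩)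
      interval_cases n
      · left; rw [pow_zero] at hn'; exact Subtype.ext (congrArg (fun r : R => (r : K)) hn').symm
      · right; rw [pow_one] at hn'; exact Subtype.ext (congrArg (fun r : R => (r : K)) hn').symm
    · intro h _ hc'
      exact hCR (Subgroup.mem_centralizer_iff.2 fun r hr => congrArg Subtype.val (hc' ⟨r, hRle hr⟩ hr).eq.symm)
  -- lifts of the generators
  let π : N0 →* Cfsg.PSp 2 F := e.toMonoidHom.comp (QuotientGroup.mk' (R.subgroupOf N0))
  have hπ : Function.Surjective π := e.surjective.comp (QuotientGroup.mk'_surjective _)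
  have hk : ∀ x : N0, π x = 1 ↔ (x : K) ∈ R := fun x => by
    show e (x : _ ⧸ R.subgroupOf N0) = 1 ↔ _
    rw [MulEquiv.map_eq_one_iff, QuotientGroup.eq_one_iff, Subgroup.mem_subgroupOf]
  choose l hl using fun i => hπ (pGen i)
  let ι : N0 →* N := Subgroup.inclusion hN0
  have hιv : ∀ x : N0, ((ι x : N) : K) = x := fun _ => rfl
  have hprod : ∀ w : List ℕ, π (w.map l).prod = (w.map (pGen (F := F))).prod := fun w => by
    rw [map_list_prod, List.map_map]
    congr 1
    exact List.map_congr_left fun i _ => hl i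
  obtain ⟨C, Fr, hFJ, hgen⟩ := exists_frame hExt (fun i => ι (l i)) (fun i => hz _)
    (fun w w' h => by
      rw [show (w.map fun i => ι (l i)).prod = ι (w.map l).prod by rw [map_list_prod, List.map_map]; rfl,
        show (w'.map fun i => ι (l i)).prod = ι (w'.map l).prod by rw [map_list_prod, List.map_map]; rfl,
        ← map_inv, ← map_mul, Subgroup.mem_subgroupOf, hιv]
      exact (hk _).1 (by rw [map_mul, map_inv, hprod, hprod, pGen_rel h, inv_mul_cancel]))
    (fun h => by
      have h1 := (hk (l 0)).2 h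
      rw [hl] at h1
      exact pGen_zero_ne h1)
  have hκπ : ∀ x y : N0, π x = π y → Fr.κ (ι x) = Fr.κ (ι y) := fun x y h => by
    refine (Fr.κ_eq_iff (hz _) (hz _)).2 ?_
    rw [hFJ, Subgroup.mem_subgroupOf]
    exact (hk (x⁻¹ * y)).1 (by rw [map_mul, map_inv, h, inv_mul_cancel])
  -- the inner half
  obtain ⟨M, hM⟩ : ∃ M, M = N0.subgroupOf N := ⟨_, rfl⟩
  have hMc : Nat.card M = 512 * 25920 := by
    rw [hM, Nat.card_congr (Subgroup.subgroupOfEquivOfLe hN0).toEquiv,
      Subgroup.card_eq_card_quotient_mul_card_subgroup (R.subgroupOf N0), Nat.card_congr e.toEquiv, card_psp hF,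
      Nat.card_congr (Subgroup.subgroupOfEquivOfLe hRN).toEquiv, hRc]
    norm_num
  have hmemM : ∀ h : N, h ∈ M ↔ (h : K) ∈ N0 := fun h => by rw [hM, Subgroup.mem_subgroupOf]
  have hJK : Fr.J ≤ M := fun j hj => (hmemM j).2 (hRN (by rw [hFJ] at hj; exact hj))
  have hgK : ∀ i < 4, ∃ h ∈ M, Commute h z ∧ Fr.κ h = C.gens.getD i 0 := fun i hi =>
    ⟨ι (l i), (hmemM _).2 (l i).2, hz _, hgen i hi⟩
  let FK := Fr.restrict M hJK hgK
  have hcK : Nat.card ↥(Subgroup.centralizer ({(⟨z, hJK Fr.ext.zJ⟩ : M)} : Set M)) = 512 * 25920 := by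
    rw [card_centralizer_sub, inf_eq_left.2 fun x _ => Subgroup.mem_centralizer_singleton_iff.2 (hz x).eq, hMc]
  have hword : ∀ h ∈ M, WordCode C.gens (Fr.κ h) := fun h hh =>
    FK.word_code hcK (h := ⟨h, hh⟩) (Subtype.ext (hz h).eq)
  -- the action is the unitary one
  have hC : C = cfgU := by
    rcases list_cases Fr.std with rfl | hC'
    · rfl
    exfalso
    have h64 : 64 ∈ planeL C := by rcases hC' with rfl | rfl <;> decide
    obtain ⟨j, hj, hjv⟩ := Fr.vc_surj 64 (by norm_num)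
    have hjR : (j : K) ∈ R := by rw [hFJ] at hj; exact hj
    have hz0 := hfree j hjR fun n hn => by
      have hnM : (⟨n, hN0 hn⟩ : N) ∈ M := (hmemM _).2 hn
      have hfix := Fr.word_fix (hword _ hnM) (v := 64) (by norm_num) h64
      have hcJ := Fr.ext.norm _ (hz ⟨n, hN0 hn⟩) j hj
      rcases Fr.vc_zero _ (mul_mem hcJ (inv_mem hj)) (by
        rw [Fr.vc_mul _ hcJ _ (inv_mem hj), Fr.vc_inv hj, Fr.act _ (hz _) j hj, hjv, hfix, Nat.xor_self]) with h | h
      · rw [show n * (j : K) * n⁻¹ * (j : K)⁻¹ = 1 from congrArg Subtype.val h]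
        exact one_mem _
      · rw [show n * (j : K) * n⁻¹ * (j : K)⁻¹ = t from congrArg Subtype.val h]
        exact Subgroup.mem_zpowers t
    rcases (mem_zpowers_two ht2).1 hz0 with h | h
    · rw [show j = 1 from Subtype.ext h, Fr.vc_one] at hjv
      omega
    · rw [show j = z from Subtype.ext h, Fr.vc_z] at hjv
      omega
  subst hC
  -- nothing inner acts as a scalar
  have hscal : ∀ d : N, d ∈ M → (∀ i < 4, cm (Fr.κ d) (gensU.getD i 0) = cm (gensU.getD i 0) (Fr.κ d)) →
      Fr.κ d = idc := by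
    intro d hd hcm
    have h := commutant (Fr.κ_lt d) hcm
    simp only [List.mem_cons, List.not_mem_nil, or_false] at h
    rcases h with h | h | h
    · exfalso
      have h1 := (Fr.κ_inv (hz d)).1
      rw [h] at h1
      have hne : cm 0 (Fr.κ d⁻¹) ≠ idc := fun e0 => by
        have := congrArg (fun k => ap k 1) e0
        simp only [ap_cm] at this
        have h01 : ∀ v : ℕ, ap 0 v = 0 := fun v => by simp [ap, byte]
        rw [h01, ap_idc (by norm_num)] at this
        exact absurd this (by norm_num)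
      exact hne h1
    · exact h
    · exfalso
      obtain ⟨x, hx, hxe⟩ := FK.lift_xC (k := 0) (by norm_num)
      have hc := (FK.cover hcK (by norm_num) hx hxe (h := ⟨d, hd⟩) (Subtype.ext (hz d).eq)).2.2
      have hcomm : cm (FK.κ ⟨d, hd⟩) (FK.κ x) = cm (FK.κ x) (FK.κ ⟨d, hd⟩) := by
        rw [hxe]
        obtain ⟨w, hw, hwe⟩ : WordCode gensU (xC gensU 0) := ⟨xW 0, xW_lt 0 (by norm_num), rfl⟩
        show cm (Fr.κ d) (xC gensU 0) = cm (xC gensU 0) (Fr.κ d)
        have hom := omega_comm (c := xC gensU 0) ⟨w, hw, hwe⟩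
        rcases h with h | h <;> rw [h]
        · exact hom.symm
        · rw [cm_assoc, ← hom, ← cm_assoc, ← hom, cm_assoc]
      refine omC_not_central (c := Fr.κ d) ?_ (hc hcomm)
      simp only [List.mem_cons, List.not_mem_nil, or_false]
      exact h
  have hMn : ∀ h : N, ∀ m ∈ M, h * m * h⁻¹ ∈ M := by
    have hi : M.index ≤ 2 := by
      have h1 := Subgroup.card_mul_index M
      have h2 := hidx
      rw [← Nat.card_congr (Subgroup.subgroupOfEquivOfLe hN0).toEquiv, ← hM] at h2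
      rw [hMc] at h1 h2
      omega
    have hn0 : M.index ≠ 0 := Subgroup.FiniteIndex.index_ne_zero
    haveI : M.Normal := by
      rcases (show M.index = 1 ∨ M.index = 2 by omega) with h | h
      · rw [Subgroup.index_eq_one.1 h]; infer_instance
      · exact Subgroup.normal_of_index_eq_two h
    exact fun h m hm => Subgroup.Normal.conj_mem inferInstance m hm h
  -- the automorphism induced by an element
  have hnorm0 : ∀ h ∈ N, ∀ n ∈ N0, h * n * h⁻¹ ∈ N0 := fun h hh n hn =>
    (hmemM _).1 (hMn ⟨h, hh⟩ ⟨n, hN0 hn⟩ ((hmemM _).2 hn))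
  have induced : ∀ h : N, ∃ φ : MulAut (Cfsg.PSp 2 F),
      ∀ n : N0, φ (π n) = π ⟨(h : K) * n * (h : K)⁻¹, hnorm0 h h.2 n n.2⟩ := by
    intro h
    let σ : N0 ≃* N0 :=
      { toFun := fun n => ⟨(h : K) * n * (h : K)⁻¹, hnorm0 h h.2 n n.2⟩
        invFun := fun n => ⟨(h : K)⁻¹ * n * (h : K), by simpa using hnorm0 _ (inv_mem h.2) n n.2⟩
        left_inv := fun n => Subtype.ext (by group)
        right_inv := fun n => Subtype.ext (by group)
        map_mul' := fun a b => Subtype.ext (by push_cast; group) }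
    have hσ : (R.subgroupOf N0).map σ.toMonoidHom = R.subgroupOf N0 := by
      refine Subgroup.eq_of_le_of_card_ge ?_ (Subgroup.card_map_of_injective σ.injective).ge
      rintro _ ⟨r, hr, rfl⟩
      exact hnormR h h.2 r hr
    exact ⟨e.symm.trans ((QuotientGroup.congr _ _ σ hσ).trans e), fun n => by
      show e (QuotientGroup.congr _ _ σ hσ (e.symm (e (n : _ ⧸ R.subgroupOf N0)))) = _
      rw [e.symm_apply_apply]
      rfl⟩
  -- what induces the similitude
  have hsim : ∀ h : N, (∀ n : N0, π ⟨(h : K) * n * (h : K)⁻¹, hnorm0 h h.2 n n.2⟩ = simPSp (π n)) →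
      cm (Fr.κ h) omC = cm (cm omC omC) (Fr.κ h) := by
    intro h hh
    have himg : ∀ i < 4, cm (Fr.κ h) (gensU.getD i 0) = cm (imgC gensU i) (Fr.κ h) := by
      intro i hi
      have h1 := hκπ ⟨(h : K) * l i * (h : K)⁻¹, hnorm0 h h.2 _ (l i).2⟩ (((imgW.getD i []).map l).prod)
        (by rw [hh, hl, simPSp_gen hi, hprod])
      have hw : ∀ w : List ℕ, (∀ a ∈ w, a < 4) → Fr.κ (ι (w.map l).prod) = cw gensU w := by
        intro w hw
        induction w with
        | nil => rw [cw_nil]; exact Fr.κ_one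
        | cons a w ih =>
          rw [List.map_cons, List.prod_cons, map_mul, Fr.κ_mul (hz _) (hz _),
            ih fun b hb => hw b (List.mem_cons_of_mem _ hb), hgen a (hw a List.mem_cons_self), cw_cons]
          rfl
      rw [hw _ (imgW_lt i hi), show ι ⟨(h : K) * l i * (h : K)⁻¹, hnorm0 h h.2 _ (l i).2⟩ = h * ι (l i) * h⁻¹ from rfl,
        Fr.κ_conj (hz _) (hz _), hgen i hi] at h1
      show _ = cm (cw gensU (imgW.getD i [])) _
      rw [← h1, cm_assoc _ (Fr.κ h⁻¹), (Fr.κ_inv (hz h)).2, cm_idc (cm_lt _ _)]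
      rfl
    have h2M : h * h ∈ M := by
      have hi : M.index ≤ 2 := by
        have h1 := Subgroup.card_mul_index M
        have h2 := hidx
        rw [← Nat.card_congr (Subgroup.subgroupOfEquivOfLe hN0).toEquiv, ← hM] at h2
        rw [hMc] at h1 h2
        omega
      have hn0 : M.index ≠ 0 := Subgroup.FiniteIndex.index_ne_zero
      rcases (show M.index = 1 ∨ M.index = 2 by omega) with h' | h'
      · rw [Subgroup.index_eq_one.1 h']; exact Subgroup.mem_top _
      · rw [← pow_two]; exact Subgroup.sq_mem_of_index_two h' h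
    have hsq : cm (Fr.κ h) (Fr.κ h) = idc := by
      rw [← Fr.κ_mul (hz h) (hz h)]
      refine hscal _ h2M fun i hi => ?_
      have hW : ∀ w : List ℕ, (∀ a ∈ w, a < 4) → cm (Fr.κ h) (cw gensU w) =
          cm (cw ((List.range 4).map (imgC gensU)) w) (Fr.κ h) := by
        intro w hw
        refine code_ext (cm_lt _ _) (cm_lt _ _) fun x hx => ?_
        rw [ap_cm, ap_cm, intertwine gensU himg w hw x hx]
      have himg2 : cw ((List.range 4).map (imgC gensU)) (imgW.getD i []) = gensU.getD i 0 := by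
        have hall : ∀ i < 4, cw ((List.range 4).map (imgC gensU)) (imgW.getD i []) = gensU.getD i 0 := by
          decide +kernel
        exact hall i hi
      rw [Fr.κ_mul (hz h) (hz h), cm_assoc, himg i hi, ← cm_assoc, show imgC gensU i = cw gensU (imgW.getD i []) from rfl,
        hW _ (imgW_lt i hi), himg2, cm_assoc]
    exact semilinear_out (Fr.out_code (hz h) hsq himg) (Fr.κ_lt h)
  -- outside the inner half
  have houter : ∀ h : N, h ∉ M → cm (Fr.κ h) omC = cm (cm omC omC) (Fr.κ h) := by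
    intro h hh
    have hinj : Function.Injective (MulAut.conj : Cfsg.PSp 2 F →* MulAut (Cfsg.PSp 2 F)) := by
      refine (injective_iff_map_eq_one _).2 fun x hx => ?_
      obtain ⟨s, rfl⟩ := QuotientGroup.mk_surjective x
      rw [Cfsg.Lib.Linear.AutPSp.conj_mk_eq] at hx
      exact Cfsg.Lib.Linear.AutPSp.eq_one_of_innd_toGS 3 (by norm_num) hx
    have hA : Nat.card (MulAut (Cfsg.PSp 2 F)) = 2 * 25920 := by
      rw [Cfsg.Agent.S0814.result 3 1 le_rfl (by rw [hF, pow_one]) 2 le_rfl (fun _ => by norm_num), card_psp hF]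
      norm_num
    have hr : (MulAut.conj : Cfsg.PSp 2 F →* MulAut (Cfsg.PSp 2 F)).range.index = 2 := by
      have h2 := Subgroup.card_mul_index (MulAut.conj : Cfsg.PSp 2 F →* MulAut (Cfsg.PSp 2 F)).range
      rw [← Nat.card_congr (MonoidHom.ofInjective hinj).toEquiv, card_psp hF, hA] at h2
      omega
    have notinner : ∀ g : N, g ∉ M → ∀ φ : MulAut (Cfsg.PSp 2 F),
        (∀ n : N0, φ (π n) = π ⟨(g : K) * n * (g : K)⁻¹, hnorm0 g g.2 n n.2⟩) →
        φ ∉ (MulAut.conj : Cfsg.PSp 2 F →* MulAut (Cfsg.PSp 2 F)).range := by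
      rintro g hg φ hφ ⟨x, rfl⟩
      obtain ⟨m, rfl⟩ := hπ x
      obtain ⟨d, hd⟩ : ∃ d, d = (ι m)⁻¹ * g := ⟨_, rfl⟩
      have hdM : d ∉ M := fun hd' => hg (by
        have := mul_mem ((hmemM (ι m)).2 m.2) hd'
        rwa [hd, mul_inv_cancel_left] at this)
      have hcm : ∀ i < 4, cm (Fr.κ d) (gensU.getD i 0) = cm (gensU.getD i 0) (Fr.κ d) := by
        intro i hi
        have h1 := hκπ ⟨(g : K) * l i * (g : K)⁻¹, hnorm0 g g.2 _ (l i).2⟩ (m * l i * m⁻¹)
          (by rw [← hφ, MulAut.conj_apply, map_mul, map_mul, map_inv])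
        have e1 : Fr.κ (d * ι (l i) * d⁻¹) = Fr.κ (ι (l i)) := by
          rw [show d * ι (l i) * d⁻¹ = (ι m)⁻¹ * (g * ι (l i) * g⁻¹) * ι m by rw [hd]; group,
            Fr.κ_mul (hz _) (hz _), Fr.κ_mul (hz _) (hz _),
            show g * ι (l i) * g⁻¹ = ι ⟨(g : K) * l i * (g : K)⁻¹, hnorm0 g g.2 _ (l i).2⟩ from rfl, h1,
            ← Fr.κ_mul (hz _) (hz _), ← Fr.κ_mul (hz _) (hz _)]
          congr 1
          rw [map_mul, map_mul, map_inv]; group
        have := (Fr.κ_conj_fix (hz d) (hz _)).1 e1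
        rwa [hgen i hi] at this
      -- the square is inner
      have hi : M.index = 2 := by
        have h1 := Subgroup.card_mul_index M
        have h2 := hidx
        rw [← Nat.card_congr (Subgroup.subgroupOfEquivOfLe hN0).toEquiv, ← hM] at h2
        rw [hMc] at h1 h2
        have hn1 : M.index ≠ 1 := fun h' => hdM (by rw [Subgroup.index_eq_one.1 h']; exact Subgroup.mem_top _)
        have hn0 : M.index ≠ 0 := Subgroup.FiniteIndex.index_ne_zero
        omega
      have h2 := hscal (d * d) (by rw [← pow_two]; exact Subgroup.sq_mem_of_index_two hi d) fun i hi => by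
        rw [Fr.κ_mul (hz d) (hz d), cm_assoc, hcm i hi, ← cm_assoc, hcm i hi, cm_assoc]
      rw [Fr.κ_mul (hz d) (hz d)] at h2
      have hd1 : Fr.κ d = idc := by
        have h := commutant (Fr.κ_lt d) hcm
        simp only [List.mem_cons, List.not_mem_nil, or_false] at h
        rcases h with h | h | h | h
        · rw [h] at h2
          exact absurd h2 (by decide +kernel)
        · exact h
        · rw [h] at h2
          exact absurd h2 (by decide +kernel)
        · rw [h] at h2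
          exact absurd h2 (by decide +kernel)
      exact hdM (hJK (Fr.ker d (hz d) hd1))
    obtain ⟨φ, hφ⟩ := induced h
    have h1 := notinner h hh φ hφ
    have hsimout : (simPSp : MulAut (Cfsg.PSp 2 F)) ∉
        (MulAut.conj : Cfsg.PSp 2 F →* MulAut (Cfsg.PSp 2 F)).range := by
      rintro ⟨x, hx⟩
      obtain ⟨m, rfl⟩ := hπ x
      have h2 := hsim (ι m) fun n => by
        rw [← hx, MulAut.conj_apply, ← map_inv, ← map_mul, ← map_mul]
        rfl
      have h3' := omega_comm (hword (ι m) ((hmemM _).2 m.2))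
      rw [h3'] at h2
      have h4 := congrArg (fun c => cm c (Fr.κ (ι m)⁻¹)) h2
      simp only [cm_assoc, (Fr.κ_inv (hz (ι m))).1] at h4
      exact absurd h4 (by decide +kernel)
    obtain ⟨x, hx⟩ := (Subgroup.mul_mem_iff_of_index_two hr (a := φ) (b := simPSp)).2
      ⟨fun a => absurd a h1, fun b => absurd b hsimout⟩
    obtain ⟨m, rfl⟩ := hπ x
    have h0 := hsim ((ι m)⁻¹ * h) fun n => by
      have e1 : φ (π n) = π (m * ⟨((ι m)⁻¹ * h : N) * (n : K) * (((ι m)⁻¹ * h : N) : K)⁻¹,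
          hnorm0 _ ((ι m)⁻¹ * h).2 n n.2⟩ * m⁻¹) := by
        rw [hφ]
        congr 1
        refine Subtype.ext ?_
        simp only [Subgroup.coe_mul, Subgroup.coe_inv, hιv]
        group
      have e2 : φ (π n) = π m * simPSp (π n) * (π m)⁻¹ := by
        have hx' : φ = MulAut.conj (π m) * simPSp := by rw [hx, mul_assoc, simPSp_sq, mul_one]
        rw [hx', MulAut.mul_apply, MulAut.conj_apply]
      rw [e2, map_mul, map_mul, map_inv] at e1
      exact (mul_left_cancel (mul_right_cancel e1)).symm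
    have hmw := omega_comm (hword (ι m) ((hmemM _).2 m.2))
    conv_lhs => rw [show h = ι m * ((ι m)⁻¹ * h) by group, Fr.κ_mul (hz _) (hz _), cm_assoc, h0, ← cm_assoc,
      ← cm_assoc (Fr.κ (ι m)), hmw, cm_assoc omC, hmw, ← cm_assoc omC omC, cm_assoc (cm omC omC)]
    rw [← Fr.κ_mul (hz _) (hz _), mul_inv_cancel_left]
  -- the quotient by the involution
  haveI hTn : (Subgroup.zpowers t).Normal := ⟨fun n hn g => by
    rcases (mem_zpowers_two ht2).1 hn with rfl | rfl
    · simp
    · rw [hcen g, mul_inv_cancel_right]; exact Subgroup.mem_zpowers _⟩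
  obtain ⟨q, hq⟩ : ∃ q, q = QuotientGroup.mk' (Subgroup.zpowers t) := ⟨_, rfl⟩
  have hqs : Function.Surjective q := hq ▸ QuotientGroup.mk'_surjective _
  have hqeq : ∀ a b : K, q a = q b → b = a ∨ b = a * t := by
    intro a b h
    rw [hq, QuotientGroup.mk'_apply, QuotientGroup.mk'_apply, QuotientGroup.eq] at h
    rcases (mem_zpowers_two ht2).1 h with h | h
    · exact Or.inl (inv_mul_eq_one.1 h).symm
    · exact Or.inr (inv_mul_eq_iff_eq_mul.1 h)
  have hmemq : ∀ {S : Subgroup K}, t ∈ S → ∀ a : K, q a ∈ S.map q ↔ a ∈ S := by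
    intro S hS a
    refine ⟨?_, fun h => ⟨a, h, rfl⟩⟩
    rintro ⟨b, hb, hba⟩
    rcases hqeq b a hba with h | h <;> rw [h]
    exacts [hb, mul_mem hb hS]
  have hcardq : ∀ {S : Subgroup K}, t ∈ S → 2 * Nat.card (S.map q) = Nat.card S := by
    intro S hS
    rw [← Subgroup.relIndex_ker, hq, QuotientGroup.ker_mk', ← ht, ← Nat.card_zpowers]
    have := Subgroup.card_mul_index ((Subgroup.zpowers t).subgroupOf S)
    rwa [Nat.card_congr (Subgroup.subgroupOfEquivOfLe (Subgroup.zpowers_le.2 hS)).toEquiv] at this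
  obtain ⟨rep, hrep⟩ : ∃ rep : K ⧸ Subgroup.zpowers t → K, ∀ x, q (rep x) = x :=
    ⟨fun x => (hqs x).choose, fun x => (hqs x).choose_spec⟩
  obtain ⟨κX, hκX⟩ : ∃ κX : K ⧸ Subgroup.zpowers t → ℕ,
      ∀ x, κX x = if h : rep x ∈ N then Fr.κ ⟨rep x, h⟩ else 0 := ⟨_, fun _ => rfl⟩
  obtain ⟨vX, hvX⟩ : ∃ vX : K ⧸ Subgroup.zpowers t → ℕ,
      ∀ x, vX x = if h : rep x ∈ N then Fr.vc ⟨rep x, h⟩ else 0 := ⟨_, fun _ => rfl⟩
  have htN : t ∈ N := hRle htR
  have hκq : ∀ n : N, κX (q n) = Fr.κ n := by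
    intro n
    rw [hκX]
    rcases hqeq (n : K) (rep (q n)) (hrep _).symm with h | h
    · rw [dif_pos (show rep (q (n : K)) ∈ N by rw [h]; exact n.2)]; congr 1; exact Subtype.ext h
    · rw [dif_pos (h ▸ mul_mem n.2 htN), ← Fr.κ_mulJ (hz n) Fr.ext.zJ]
      congr 1
      exact Subtype.ext h
  have hvq : ∀ n : N, n ∈ Fr.J → vX (q n) = Fr.vc n := by
    intro n hn
    rw [hvX]
    rcases hqeq (n : K) (rep (q n)) (hrep _).symm with h | h
    · rw [dif_pos (show rep (q (n : K)) ∈ N by rw [h]; exact n.2)]; congr 1; exact Subtype.ext h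
    · rw [dif_pos (h ▸ mul_mem n.2 htN), ← Fr.vc_mul_z hn]
      congr 1
      exact Subtype.ext h
  have hJmem : ∀ {r : K} (hr : r ∈ R), (⟨r, hRle hr⟩ : N) ∈ Fr.J := fun hr => by rw [hFJ]; exact hr
  have hmod : UMod (R.map q) (N0.map q) (N.map q) vX κX := by
    refine ⟨?_, Subgroup.map_mono hRN, Subgroup.map_mono hN0, ?_, ?_, ?_, ?_, ?_, ?_, ?_, ?_, ?_, ?_, ?_, ?_,
      ?_, ?_, ?_, ?_, ?_⟩
    · ext x
      obtain ⟨g, rfl⟩ := hqs x
      rw [hmemq htN, hN, Subgroup.mem_normalizer_iff, Subgroup.mem_normalizer_iff]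
      constructor
      · intro h y
        obtain ⟨r, rfl⟩ := hqs y
        rw [← map_inv, ← map_mul, ← map_mul, hmemq htR, hmemq htR]
        exact h r
      · intro h r
        rw [← hmemq htR r, ← hmemq htR (g * r * g⁻¹), map_mul, map_mul, map_inv]
        exact h (q r)
    · have := hcardq htR; rw [hRc, show (2 : ℕ) ^ 9 = 512 by norm_num] at this; omega
    · have := hcardq (hRN htR)
      rw [← Nat.card_congr (Subgroup.subgroupOfEquivOfLe hN0).toEquiv, ← hM, hMc] at this
      omega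
    · have h1 := hcardq htN
      have h2 := hcardq (hRN htR)
      omega
    · rintro _ ⟨r, hr, rfl⟩
      rw [← map_mul]
      rcases Fr.ext.sq _ (hJmem hr) with h | h
      · rw [show r * r = 1 from congrArg Subtype.val h, map_one]
      · rw [show r * r = t from congrArg Subtype.val h, hq]
        exact (QuotientGroup.eq_one_iff t).2 (Subgroup.mem_zpowers t)
    · rintro _ ⟨r, hr, rfl⟩ _ ⟨s, hs, rfl⟩
      have hc : q (r * s * r⁻¹ * s⁻¹) = 1 := by
        rcases Fr.ext.cmt _ (hJmem hr) _ (hJmem hs) with h | h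
        · rw [show r * s * r⁻¹ * s⁻¹ = 1 from congrArg Subtype.val h, map_one]
        · rw [show r * s * r⁻¹ * s⁻¹ = t from congrArg Subtype.val h, hq]
          exact (QuotientGroup.eq_one_iff t).2 (Subgroup.mem_zpowers t)
      rw [← map_mul, ← map_mul, show r * s = (r * s * r⁻¹ * s⁻¹) * (s * r) by group, map_mul, hc, one_mul]
    · intro x
      rw [hvX]; split
      exacts [Fr.vc_lt _, by norm_num]
    · rintro _ ⟨r, hr, rfl⟩ _ ⟨s, hs, rfl⟩
      rw [← map_mul, hvq ⟨r, hRle hr⟩ (hJmem hr), hvq ⟨s, hRle hs⟩ (hJmem hs),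
        hvq ⟨r * s, hRle (mul_mem hr hs)⟩ (hJmem (mul_mem hr hs)), ← Fr.vc_mul _ (hJmem hr) _ (hJmem hs)]
      rfl
    · rintro _ ⟨r, hr, rfl⟩ h
      rw [hvq ⟨r, hRle hr⟩ (hJmem hr)] at h
      rcases Fr.vc_zero _ (hJmem hr) h with h' | h'
      · rw [show r = 1 from congrArg Subtype.val h', map_one]
      · rw [show r = t from congrArg Subtype.val h', hq]
        exact (QuotientGroup.eq_one_iff t).2 (Subgroup.mem_zpowers t)
    · intro x
      rw [hκX]; split
      exacts [Fr.κ_lt _, by norm_num]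
    · rintro _ ⟨g, hg, rfl⟩ _ ⟨k, hk', rfl⟩
      rw [← map_mul, hκq ⟨g, hg⟩, hκq ⟨k, hk'⟩, hκq ⟨g * k, mul_mem hg hk'⟩, ← Fr.κ_mul (hz _) (hz _)]
      rfl
    · rintro _ ⟨g, hg, rfl⟩ _ ⟨r, hr, rfl⟩
      rw [← map_inv, ← map_mul, ← map_mul, hκq ⟨g, hg⟩, hvq ⟨r, hRle hr⟩ (hJmem hr),
        hvq ⟨g * r * g⁻¹, hRle (hnormR g hg r hr)⟩ (hJmem (hnormR g hg r hr)), ← Fr.act _ (hz _) _ (hJmem hr)]
      rfl
    · rintro _ ⟨g, hg, rfl⟩ h
      rw [hκq ⟨g, hg⟩] at h
      have := Fr.ker _ (hz _) h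
      rw [hFJ] at this
      exact ⟨g, this, rfl⟩
    · rintro _ ⟨g, hg, rfl⟩
      rw [hκq ⟨g, hN0 hg⟩]
      exact hword _ ((hmemM _).2 hg)
    · intro c hc
      obtain ⟨a, -, ha⟩ := FK.lift_code hc
      exact ⟨q (a : N), ⟨_, (hmemM _).1 a.2, rfl⟩, (hκq _).trans ha⟩
    · rintro _ ⟨g, hg, rfl⟩ h2 h1
      rw [hκq ⟨g, hN0 hg⟩] at h2 h1 ⊢
      obtain ⟨u, hu⟩ : ∃ u : M, u = ⟨⟨g, hN0 hg⟩, (hmemM _).2 hg⟩ := ⟨_, rfl⟩
      have huz : Commute u ⟨z, hJK Fr.ext.zJ⟩ := Subtype.ext (hz _).eq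
      have hu' : FK.κ u = Fr.κ ⟨g, hN0 hg⟩ := by rw [hu]; rfl
      obtain ⟨k, hk2, a, ha, hae⟩ := FK.invol_class hcK huz (by rw [hu']; exact h2) (by rw [hu']; exact h1)
      refine ⟨?_, k, hk2, q (a : N), ⟨_, (hmemM _).1 a.2, rfl⟩, ?_⟩
      · have := (FK.cover hcK hk2 ((ha.mul_left huz).mul_left ha.inv_left) hae ha.inv_left).1
        rw [show a⁻¹ * (a * u * a⁻¹) * a⁻¹⁻¹ = u by group, hu'] at this
        simp only [invL, List.mem_append]
        interval_cases k
        exacts [Or.inl this, Or.inr this]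
      · rw [← map_inv, ← map_mul, ← map_mul,
          show ((a : N) : K) * g * ((a : N) : K)⁻¹ = (((a : N) * ⟨g, hN0 hg⟩ * (a : N)⁻¹ : N) : K) from rfl, hκq]
        have : FK.κ (a * u * a⁻¹) = Fr.κ ((a : N) * ⟨g, hN0 hg⟩ * (a : N)⁻¹) := by rw [hu]; rfl
        rw [← this]; exact hae
    · rintro _ ⟨g, hg, rfl⟩ hgI
      rw [hκq ⟨g, hg⟩]
      exact houter _ fun h => hgI ⟨g, (hmemM _).1 h, rfl⟩
    · rintro _ ⟨g, hg, rfl⟩ ho ⟨_, ⟨r, hr, rfl⟩, hr1, hrc⟩ x hx
      obtain ⟨k, rfl⟩ := hqs x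
      refine ⟨k, ?_, rfl⟩
      have h3t : q (g ^ 3) = 1 := by rw [map_pow, ← ho, pow_orderOf_eq_one]
      have hg3 : g ^ 3 = 1 ∨ g ^ 3 = t := by
        rcases hqeq 1 (g ^ 3) (by rw [map_one, h3t]) with h | h
        exacts [Or.inl h, Or.inr (by rwa [one_mul] at h)]
      have hy3 : (g ^ 4) ^ 3 = 1 := by
        rw [← pow_mul, show 4 * 3 = 3 * 4 from rfl, pow_mul]
        rcases hg3 with h | h <;> rw [h]
        · exact one_pow _
        · rw [show 4 = 2 * 2 from rfl, pow_mul, pow_two t, ht2, one_pow]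
      have hqy : q (g ^ 4) = q g := by
        rw [show g ^ 4 = g ^ 3 * g by rw [← pow_succ], map_mul, h3t, one_mul]
      have hy1 : g ^ 4 ≠ 1 := fun h => by
        rw [h, map_one] at hqy
        rw [← hqy, orderOf_one] at ho
        omega
      have hr' : r ∉ Subgroup.zpowers t := fun h => hr1 (by rw [hq]; exact (QuotientGroup.eq_one_iff r).2 h)
      have hyr : Commute (g ^ 4) r := by
        have hcm : q r = q (g ^ 4 * r * (g ^ 4)⁻¹) := by
          rw [map_mul, map_mul, map_inv, hqy, hrc, mul_inv_cancel_right]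
        rcases hqeq _ _ hcm with h | h
        · exact mul_inv_eq_iff_eq_mul.1 h
        · exfalso
          generalize g ^ 4 = y at h hy3
          have hh : ∀ a : K, y * (a * t) * y⁻¹ = y * a * y⁻¹ * t := fun a => by
            calc y * (a * t) * y⁻¹ = y * a * (t * y⁻¹) := by group
              _ = y * a * y⁻¹ * t := by rw [← hcen, ← mul_assoc]
          have e : y ^ 3 * r * (y ^ 3)⁻¹ = r * t := by
            calc y ^ 3 * r * (y ^ 3)⁻¹ = y * (y * (y * r * y⁻¹) * y⁻¹) * y⁻¹ := by rw [pow_succ, pow_two]; group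
              _ = r * (t * t) * t := by rw [h, hh, h, hh, hh, h]; group
              _ = r * t := by rw [ht2, mul_one]
          rw [hy3, one_mul, inv_one, mul_one] at e
          exact ht1 (mul_eq_left.1 e.symm)
      refine h3 (g ^ 4) (pow_mem hg 4) (orderOf_eq_prime hy3 hy1) ⟨r, hr, hr', hyr⟩ (Subgroup.mem_centralizer_singleton_iff.2 ?_)
      have hcm : q (g ^ 4) = q (k * g ^ 4 * k⁻¹) := by
        rw [map_mul, map_mul, map_inv, hqy, Subgroup.mem_centralizer_singleton_iff.1 hx, mul_inv_cancel_right]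
      rcases hqeq _ _ hcm with h | h
      · exact mul_inv_eq_iff_eq_mul.1 h
      · exfalso
        have h1 : (k * g ^ 4 * k⁻¹) ^ 3 = 1 := by rw [conj_pow, hy3, mul_one, mul_inv_cancel]
        rw [h, (show Commute (g ^ 4) t from hcen _).mul_pow, hy3, one_mul,
          show t ^ 3 = t * t * t by simp [pow_succ, mul_assoc], ht2, one_mul] at h1
        exact ht1 h1
  have htop := hmod.eq_top
  refine eq_top_iff.2 fun g _ => ?_
  rw [← hmemq htN g, htop]
  exact Subgroup.mem_top _

end Cfsg.Lib.U62Core
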