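import Cfsg.Agent.Lib.U62Core.Tables
import Cfsg.Agent.Lib.U62Type.Outer

/-!
# An elementary group of order 256 with U₄(2) acting as on its natural module
-/

set_option autoImplicit false
set_option linter.unusedSectionVars false

namespace Cfsg.Lib.U62Core

open Cfsg.Lib.U62Type

variable {X : Type*} [Group X]

/-- The standing assumptions. -/
structure UMod (A I H : Subgroup X) (vc κ : X → ℕ) : Prop where
  hH : H = Subgroup.normalizer (A : Set X)
  A_le : A ≤ I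
  I_le : I ≤ H
  cardA : Nat.card A = 256
  cardI : Nat.card I = 256 * 25920
  index : Nat.card H ≤ 2 * Nat.card I
  invol : ∀ a ∈ A, a * a = 1
  comm : ∀ a ∈ A, ∀ b ∈ A, a * b = b * a
  vc_lt : ∀ x, vc x < 256
  vc_mul : ∀ a ∈ A, ∀ b ∈ A, vc (a * b) = vc a ^^^ vc b
  vc_zero : ∀ a ∈ A, vc a = 0 → a = 1
  κ_lt : ∀ h, κ h < 2 ^ 64
  κ_mul : ∀ h ∈ H, ∀ k ∈ H, κ (h * k) = cm (κ h) (κ k)
  act : ∀ h ∈ H, ∀ a ∈ A, vc (h * a * h⁻¹) = ap (κ h) (vc a)
  ker : ∀ h ∈ H, κ h = idc → h ∈ A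
  word : ∀ h ∈ I, WordCode gensU (κ h)
  lift : ∀ c, WordCode gensU c → ∃ h ∈ I, κ h = c
  cls : ∀ h ∈ I, cm (κ h) (κ h) = idc → κ h ≠ idc →
    κ h ∈ invL cfgU ∧ ∃ k < 2, ∃ g ∈ I, κ (g * h * g⁻¹) = xC gensU k
  outer : ∀ h ∈ H, h ∉ I → cm (κ h) omC = cm (cm omC omC) (κ h)
  three : ∀ y ∈ H, orderOf y = 3 → (∃ a ∈ A, a ≠ 1 ∧ y * a = a * y) →
    Subgroup.centralizer ({y} : Set X) ≤ H

theorem mem_fxs {c v : ℕ} : v ∈ fxs c ↔ v < 256 ∧ ap c v = v := by
  simp [fxs, vecs]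

theorem memB_iff {c : ℕ} {l : List ℕ} : memB c l = true ↔ c ∈ l := by
  simp [memB]

theorem commB_iff {a b : ℕ} : commB a b = true ↔ cm a b = cm b a := nbeq_iff

theorem omC_free {v : ℕ} (hv : v < 256) (h : ap omC v = v) : v = 0 := by
  have h0 := scalar_ok
  simp only [scalarChk, Bool.and_eq_true, beq_iff_eq] at h0
  have : v ∈ fxs omC := mem_fxs.2 ⟨hv, h⟩
  rw [h0.1.1.1.1.1] at this
  simpa using this

/-- What a semilinear map fixes in an invariant set is at most half of it in dimension. -/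
theorem outer_fix_sq {c : ℕ} (hc : cm c omC = cm (cm omC omC) c) (S : Finset ℕ) (hlt : ∀ v ∈ S, v < 256)
    (hom : ∀ v ∈ S, ap omC v ∈ S) (hadd : ∀ u ∈ S, ∀ v ∈ S, u ^^^ v ∈ S) :
    (S.filter fun v => ap c v = v).card * (S.filter fun v => ap c v = v).card ≤ S.card := by
  classical
  obtain ⟨T, hT⟩ : ∃ T, T = S.filter fun v => ap c v = v := ⟨_, rfl⟩
  rw [← hT, ← Finset.card_product]
  refine Finset.card_le_card_of_injOn (fun p => p.1 ^^^ ap omC p.2) (fun p hp => ?_) ?_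
  · rw [Finset.coe_product, Set.mem_prod, Finset.mem_coe, Finset.mem_coe, hT, Finset.mem_filter,
      Finset.mem_filter] at hp
    exact hadd _ hp.1.1 _ (hom _ hp.2.1)
  rintro ⟨u, w⟩ hp ⟨u', w'⟩ hp' h
  rw [Finset.coe_product, Set.mem_prod, Finset.mem_coe, Finset.mem_coe, hT, Finset.mem_filter,
    Finset.mem_filter] at hp hp'
  obtain ⟨⟨hu, hcu⟩, hw, hcw⟩ := hp
  obtain ⟨⟨hu', hcu'⟩, hw', hcw'⟩ := hp'
  simp only at h hu hcu hw hcw hu' hcu' hw' hcw'
  have hd : u ^^^ u' = ap omC (w ^^^ w') := by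
    rw [ap_xor]
    apply Nat.eq_of_testBit_eq
    intro i
    have := congrArg (fun x => Nat.testBit x i) h
    simp only [Nat.testBit_xor] at this ⊢
    revert this
    cases u.testBit i <;> cases u'.testBit i <;> cases (ap omC w).testBit i <;>
      cases (ap omC w').testBit i <;> simp
  obtain ⟨d, hde⟩ : ∃ d, d = w ^^^ w' := ⟨_, rfl⟩
  have hd256 : d < 256 := hde ▸ xor_lt (hlt _ hw) (hlt _ hw')
  have hcd : ap c d = d := by rw [hde, ap_xor, hcw, hcw']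
  have hco : ap c (ap omC d) = ap omC d := by rw [hde, ← hd, ap_xor, hcu, hcu']
  have h1 : ap omC (ap omC d) = ap omC d := by
    rw [← ap_cm, hc, ap_cm, hcd, ap_cm] at hco
    exact hco
  have hz : ap omC d = 0 := omC_free (ap_lt _ _) h1
  have hd0 : d = 0 := omC_free hd256 (by
    have h3 : ap omC (ap omC (ap omC d)) = d := by
      have h0 := scalar_ok
      simp only [scalarChk, Bool.and_eq_true, nbeq_iff] at h0
      rw [← ap_cm, ← ap_cm, cm_assoc, h0.1.1.1.1.2, ap_idc hd256]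
    rw [hz] at h3 ⊢
    rw [ap_zero, ap_zero] at h3
    exact h3)
  rw [hde] at hd0
  have hw0 := Nat.xor_eq_zero_iff.1 hd0
  subst hw0
  simp only [Nat.xor_self, ap_zero, Nat.xor_eq_zero_iff] at hd
  exact Prod.ext hd rfl

theorem omC_mem_fix {c v : ℕ} (hc : cm c omC = cm omC c) (h : ap c v = v) : ap c (ap omC v) = ap omC v := by
  rw [← ap_cm, hc, ap_cm, h]

namespace UMod

variable [Finite X] {A I H : Subgroup X} {vc κ : X → ℕ} (M : UMod A I H vc κ)
include M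

theorem A_le_H : A ≤ H := M.A_le.trans M.I_le

theorem normal {g : X} (hg : g ∈ H) {a : X} (ha : a ∈ A) : g * a * g⁻¹ ∈ A := by
  rw [M.hH, Subgroup.mem_normalizer_iff] at hg
  exact (hg a).1 ha

theorem inv_eq {a : X} (ha : a ∈ A) : a⁻¹ = a := inv_eq_of_mul_eq_one_right (M.invol a ha)

theorem vc_one : vc 1 = 0 := by
  have h := M.vc_mul 1 (one_mem _) 1 (one_mem _)
  rw [one_mul, Nat.xor_self] at h
  exact h

theorem vc_inj {a b : X} (ha : a ∈ A) (hb : b ∈ A) (h : vc a = vc b) : a = b := by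
  have := M.vc_zero _ (mul_mem ha hb) (by rw [M.vc_mul a ha b hb, h, Nat.xor_self])
  rw [← M.inv_eq hb]
  exact eq_inv_of_mul_eq_one_left this

theorem vc_surj {v : ℕ} (hv : v < 256) : ∃ a ∈ A, vc a = v := by
  have hb : Function.Bijective fun a : A => (⟨vc a, M.vc_lt a⟩ : Fin 256) := by
    refine Function.Injective.bijective_of_nat_card_le
      (fun a b h => Subtype.ext (M.vc_inj a.2 b.2 (congrArg Fin.val h))) ?_
    rw [M.cardA, Nat.card_fin]
  obtain ⟨a, ha⟩ := hb.2 ⟨v, hv⟩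
  exact ⟨a, a.2, congrArg Fin.val ha⟩

theorem κ_eq {h : X} (hh : h ∈ H) {c : ℕ} (hc : c < 2 ^ 64) (he : ∀ a ∈ A, vc (h * a * h⁻¹) = ap c (vc a)) :
    κ h = c := code_ext (M.κ_lt h) hc fun v hv => by
  obtain ⟨a, ha, rfl⟩ := M.vc_surj hv
  rw [← M.act h hh a ha, he a ha]

theorem κ_A {a : X} (ha : a ∈ A) : κ a = idc := M.κ_eq (M.A_le_H ha) idc_lt fun b hb => by
  rw [M.comm a ha b hb, mul_inv_cancel_right, ap_idc (M.vc_lt b)]

theorem κ_one : κ 1 = idc := M.κ_A (one_mem _)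

theorem κ_inv {h : X} (hh : h ∈ H) : cm (κ h) (κ h⁻¹) = idc ∧ cm (κ h⁻¹) (κ h) = idc := by
  rw [← M.κ_mul h hh _ (inv_mem hh), ← M.κ_mul _ (inv_mem hh) h hh, mul_inv_cancel, inv_mul_cancel, M.κ_one]
  exact ⟨rfl, rfl⟩

theorem κ_conj {g h : X} (hg : g ∈ H) (hh : h ∈ H) : κ (g * h * g⁻¹) = cm (cm (κ g) (κ h)) (κ g⁻¹) := by
  rw [M.κ_mul _ (mul_mem hg hh) _ (inv_mem hg), M.κ_mul g hg h hh]

theorem κ_sq {u : X} (hu : u ∈ H) (h : u * u = 1) : cm (κ u) (κ u) = idc := by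
  rw [← M.κ_mul u hu u hu, h, M.κ_one]

theorem κ_comm {u w : X} (hu : u ∈ H) (hw : w ∈ H) (h : u * w = w * u) : cm (κ u) (κ w) = cm (κ w) (κ u) := by
  rw [← M.κ_mul u hu w hw, ← M.κ_mul w hw u hu, h]

theorem κ_eq_iff {h k : X} (hh : h ∈ H) (hk : k ∈ H) : κ h = κ k ↔ h⁻¹ * k ∈ A := by
  constructor
  · intro e
    refine M.ker _ (mul_mem (inv_mem hh) hk) ?_
    rw [M.κ_mul _ (inv_mem hh) k hk, ← e, (M.κ_inv hh).2]
  · intro e
    rw [show k = h * (h⁻¹ * k) by group, M.κ_mul h hh _ (M.A_le_H e), M.κ_A e, cm_idc (M.κ_lt h)]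

theorem commute_iff {h a : X} (hh : h ∈ H) (ha : a ∈ A) : h * a = a * h ↔ ap (κ h) (vc a) = vc a := by
  rw [← M.act h hh a ha, ← mul_inv_eq_iff_eq_mul]
  exact ⟨fun e => by rw [e], fun e => M.vc_inj (M.normal hh ha) ha e⟩

theorem card_le {S : Subgroup X} (hS : S ≤ A) {l : List ℕ} (h : ∀ a ∈ S, vc a ∈ l) : Nat.card S ≤ l.length := by
  classical
  refine le_trans (Nat.card_le_card_of_injective (fun a : S => (⟨vc a, List.mem_toFinset.2 (h a a.2)⟩ : l.toFinset))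
    fun a b e => Subtype.ext (M.vc_inj (hS a.2) (hS b.2) (congrArg Subtype.val e))) ?_
  rw [Nat.card_eq_finsetCard]
  exact List.toFinset_card_le l

theorem le_card {S : Subgroup X} {l : List ℕ} (hl : l.Nodup) (h : ∀ v ∈ l, ∃ a ∈ S, vc a = v) :
    l.length ≤ Nat.card S := by
  classical
  choose f hf hfv using h
  rw [← List.toFinset_card_of_nodup hl, ← Nat.card_eq_finsetCard]
  refine Nat.card_le_card_of_injective
    (fun v : l.toFinset => (⟨f v (List.mem_toFinset.1 v.2), hf _ _⟩ : S)) fun u v e => Subtype.ext ?_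
  have := congrArg (fun s : S => vc s) e
  simpa [hfv] using this

theorem mem_fix {h a : X} (hh : h ∈ H) (ha : a ∈ A) :
    a ∈ A ⊓ Subgroup.centralizer ({h} : Set X) ↔ vc a ∈ fxs (κ h) := by
  rw [mem_fxs, ← M.commute_iff hh ha, Subgroup.mem_inf, Subgroup.mem_centralizer_singleton_iff]
  exact ⟨fun e => ⟨M.vc_lt a, e.2.symm⟩, fun e => ⟨ha, e.2.symm⟩⟩

theorem card_fix {h : X} (hh : h ∈ H) :
    Nat.card ↥(A ⊓ Subgroup.centralizer ({h} : Set X)) = (fxs (κ h)).length := by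
  refine le_antisymm (M.card_le inf_le_left fun a ha => (M.mem_fix hh ha.1).1 ha)
    (M.le_card (List.Nodup.filter _ List.nodup_range) fun v hv => ?_)
  obtain ⟨a, ha, rfl⟩ := M.vc_surj (mem_fxs.1 hv).1
  exact ⟨a, (M.mem_fix hh ha).2 hv, rfl⟩

theorem inner_fix {u : X} (hu : u ∈ I) (h2 : u * u = 1) (hA : u ∉ A) :
    (κ u ∈ clU0 ∧ (fxs (κ u)).length = 64) ∨ (κ u ∈ clU1 ∧ (fxs (κ u)).length = 16) := by
  obtain ⟨hm, -⟩ := M.cls u hu (M.κ_sq (M.I_le hu) h2) fun e => hA (M.ker u (M.I_le hu) e)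
  have h0 := root_fix
  have h1 := thin_fix
  simp only [List.all_eq_true, nbeq_iff] at h0 h1
  rcases List.mem_append.1 hm with e | e
  exacts [Or.inl ⟨e, h0 _ e⟩, Or.inr ⟨e, h1 _ e⟩]

/-- An involution outside the inner half fixes at most the square root of an invariant set. -/
theorem outer_fix {u : X} (hu : u ∈ H) (hI : u ∉ I) : (fxs (κ u)).length ≤ 16 := by
  classical
  have h := outer_fix_sq (M.outer u hu hI) (Finset.range 256) (fun v hv => Finset.mem_range.1 hv)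
    (fun v _ => Finset.mem_range.2 (ap_lt _ _))
    fun a ha b hb => Finset.mem_range.2 (xor_lt (Finset.mem_range.1 ha) (Finset.mem_range.1 hb))
  have e : (fxs (κ u)).length = ((Finset.range 256).filter fun v => ap (κ u) v = v).card := by
    rw [← List.toFinset_card_of_nodup (l := fxs (κ u)) (List.Nodup.filter _ List.nodup_range)]
    congr 1
    ext v
    simp [mem_fxs]
  rw [Finset.card_range, ← e] at h
  by_contra hlt
  have := Nat.mul_le_mul (Nat.succ_le_of_lt (Nat.lt_of_not_le hlt)) (Nat.succ_le_of_lt (Nat.lt_of_not_le hlt))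
  omega

theorem invol_fix {u : X} (hu : u ∈ H) (h2 : u * u = 1) (hA : u ∉ A) : (fxs (κ u)).length ≤ 64 := by
  by_cases hI : u ∈ I
  · rcases M.inner_fix hI h2 hA with e | e <;> omega
  · have := M.outer_fix hu hI; omega

theorem relIndex_inner : I.relIndex H ≤ 2 := by
  have h1 := Subgroup.card_mul_index (I.subgroupOf H)
  rw [Nat.card_congr (Subgroup.subgroupOfEquivOfLe M.I_le).toEquiv] at h1
  change Nat.card I * I.relIndex H = _ at h1
  have := M.index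
  rw [M.cardI] at h1 this
  omega

theorem card_inner {L : Subgroup X} (hL : L ≤ H) : Nat.card L ≤ 2 * Nat.card ↥(L ⊓ I) := by
  have h1 := Subgroup.card_mul_index (I.subgroupOf L)
  have h2 : I.relIndex L ≤ 2 :=
    (Subgroup.relIndex_le_of_le_right hL (Subgroup.FiniteIndex.index_ne_zero)).trans M.relIndex_inner
  have h3 : Nat.card (I.subgroupOf L) = Nat.card ↥(L ⊓ I) :=
    Nat.card_congr ⟨fun x => ⟨x.1.1, x.1.2, x.2⟩, fun x => ⟨⟨x.1, x.2.1⟩, x.2.2⟩, fun _ => rfl, fun _ => rfl⟩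
  rw [h3] at h1
  rw [← h1, mul_comm 2]
  exact Nat.mul_le_mul le_rfl h2

/-- The codes of a subgroup. -/
theorem exists_codes {L : Subgroup X} (hL : L ≤ H) :
    ∃ S : Finset ℕ, (∀ c, c ∈ S ↔ ∃ u ∈ L, κ u = c) ∧ Nat.card L = Nat.card ↥(A ⊓ L) * S.card ∧
      idc ∈ S ∧ ∀ a ∈ S, ∀ b ∈ S, cm a b ∈ S := by
  classical
  have := Fintype.ofFinite L
  obtain ⟨S, hS⟩ : ∃ S : Finset ℕ, S = Finset.univ.image fun u : L => κ u := ⟨_, rfl⟩
  have hmem : ∀ c, c ∈ S ↔ ∃ u ∈ L, κ u = c := fun c => by simp [hS]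
  refine ⟨S, hmem, ?_, (hmem _).2 ⟨1, one_mem _, M.κ_one⟩, fun a ha b hb => ?_⟩
  · choose f hf hfe using fun c : S => (hmem c).1 c.2
    rw [← Nat.card_eq_finsetCard, ← Nat.card_prod]
    symm
    refine Nat.card_eq_of_bijective (fun p : ↥(A ⊓ L) × S => (⟨f p.2 * p.1, mul_mem (hf _) p.1.2.2⟩ : L))
      ⟨fun p q e => ?_, fun u => ?_⟩
    · have e' : f p.2 * (p.1 : X) = f q.2 * q.1 := congrArg Subtype.val e
      have h1 := congrArg κ e'
      rw [M.κ_mul _ (hL (hf _)) _ (M.A_le_H p.1.2.1), M.κ_mul _ (hL (hf _)) _ (M.A_le_H q.1.2.1), M.κ_A p.1.2.1,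
        M.κ_A q.1.2.1, cm_idc (M.κ_lt _), cm_idc (M.κ_lt _), hfe, hfe] at h1
      have h2 : p.2 = q.2 := Subtype.ext h1
      rw [h2] at e'
      exact Prod.ext (Subtype.ext (mul_left_cancel e')) h2
    · let c : S := ⟨κ u, (hmem _).2 ⟨u, u.2, rfl⟩⟩
      exact ⟨⟨⟨(f c)⁻¹ * u, (M.κ_eq_iff (hL (hf _)) (hL u.2)).1 (hfe c), L.mul_mem (L.inv_mem (hf _)) u.2⟩, c⟩,
        Subtype.ext (mul_inv_cancel_left _ _)⟩
  · obtain ⟨u, hu, rfl⟩ := (hmem a).1 ha
    obtain ⟨w, hw, rfl⟩ := (hmem b).1 hb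
    exact (hmem _).2 ⟨u * w, mul_mem hu hw, M.κ_mul u (hL hu) w (hL hw)⟩

/-- A lift of a code of order three with no fixed vector, of order three. -/
theorem lift_three {c : ℕ} (hc : WordCode gensU c) (h3 : cm c (cm c c) = idc) (h1 : c ≠ idc) :
    ∃ h ∈ I, κ h = c ∧ orderOf h = 3 := by
  obtain ⟨h, hh, rfl⟩ := M.lift c hc
  have hH := M.I_le hh
  have hA : h * (h * h) ∈ A := M.ker _ (mul_mem hH (mul_mem hH hH))
    (by rw [M.κ_mul h hH _ (mul_mem hH hH), M.κ_mul h hH h hH, h3])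
  refine ⟨h * (h * (h * h)), mul_mem hh (M.A_le hA), ?_, ?_⟩
  · rw [M.κ_mul h hH _ (M.A_le_H hA), M.κ_A hA, cm_idc (M.κ_lt h)]
  · have : Fact (Nat.Prime 3) := ⟨Nat.prime_three⟩
    refine orderOf_eq_prime ?_ fun e => h1 ?_
    · have e4 : h * (h * (h * h)) = h ^ 4 := by simp [pow_succ, mul_assoc]
      have e3 : (h ^ 3) * (h ^ 3) = 1 := by
        rw [show h ^ 3 = h * (h * h) by simp [pow_succ, mul_assoc]]; exact M.invol _ hA
      rw [e4, ← pow_mul, show 4 * 3 = (3 + 3) + (3 + 3) from rfl, pow_add, pow_add, e3, one_mul]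
    · have := congrArg κ e
      rwa [M.κ_mul h hH _ (M.A_le_H hA), M.κ_A hA, cm_idc (M.κ_lt h), M.κ_one] at this

end UMod

end Cfsg.Lib.U62Core
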