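import Cfsg.Agent.Lib.U62Core.Data
import Cfsg.Agent.Lib.U62Type.OuterChecks

/-!
# What is checked about the action of U₄(2) on the eight-dimensional module
-/

set_option autoImplicit false
set_option Elab.async false
set_option maxRecDepth 20000

namespace Cfsg.Lib.U62Core

open Cfsg.Lib.U62Type

/-- The fixed vectors of a map. -/
def fxs (c : ℕ) : List ℕ := vecs.filter fun v => Nat.beq (ap c v) v

/-- Membership. -/
def memB (c : ℕ) (l : List ℕ) : Bool := l.any fun d => Nat.beq d c

/-- Two maps commute. -/
def commB (a b : ℕ) : Bool := Nat.beq (cm a b) (cm b a)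

/-- The vectors of the two lines are fixed. -/
def onLine (c : ℕ) : Bool := l1L.all fun v => Nat.beq (ap c v) v

/-- The places of an elementary subgroup of order nine. -/
def eL (k : ℕ) : List ℕ := (eIdx.getD k []).map fun i => s81L.getD i 0

/-- The subgroup of order at least 32 normalised by it. -/
def b1L (k : ℕ) : List ℕ := spanL (bBas.getD k [])

/-- The functional with given coordinates. -/
def funC (m : ℕ) : ℕ := mkc fun i => bit m i

theorem lists_eq : j1L = ((invL cfgU).filter fun c => commB c (xC gensU 1)) ∧
    q1L = j1L.filter onLine ∧ l1L = fxs (xC gensU 1) := by decide +kernel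

theorem lists_len : q1L.length = 15 ∧ l1L.length = 16 ∧ q1L.Nodup := by decide +kernel

theorem root_fix : (clU0.all fun c => Nat.beq (fxs c).length 64) = true := by decide +kernel

theorem thin_fix : (clU1.all fun c => Nat.beq (fxs c).length 16) = true := by decide +kernel

theorem root_pair : (clU0.all fun a => clU0.all fun b =>
    Nat.beq a b || !commB a b || !memB (cm a b) clU0) = true := by decide +kernel

/-- A group of eight has a transvection and, unless it fixes the line, is maximal. -/
def eightChk : Bool :=
  j1L.all fun b => Nat.beq b (xC gensU 1) || j1L.all fun c =>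
    let x := xC gensU 1
    let four := [idc, x, b, cm x b]
    let eight := four ++ four.map fun g => cm g c
    !commB b c || memB c four ||
      (([b, c, cm x b, cm x c, cm b c, cm x (cm b c)].any fun g => memB g clU0) &&
        ((onLine b && onLine c) || j1L.all fun d => memB d eight || !commB b d || !commB c d))

theorem eight_ok : eightChk = true := by decide +kernel

theorem line_root : (j1L.all fun c => !memB c clU0 || vecs.all fun v => memB (ap c v ^^^ v) l1L) = true := by
  decide +kernel

theorem line_thin : (q1L.all fun r => !memB r clU1 || (fxs r == l1L)) = true := by decide +kernel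

theorem line_gen : ((idc :: q1L).all fun q => q1L.any fun r =>
    memB r clU1 && memB (cm r q) q1L && memB (cm r q) clU1) = true := by decide +kernel

theorem line_span : (spanPair.all (fun p => memB p q1L && memB p clU0) && Nat.beq spanPair.length 2 &&
    (List.range 8).all fun i => (fxs (spanPair.getD 0 0)).any fun u =>
      Nat.beq (ap (spanPair.getD 1 0) (u ^^^ 2 ^ i)) (u ^^^ 2 ^ i)) = true := by decide +kernel

/-- The element of order three on the line and its companion. -/
def moverChk : Bool :=
  let y := cw gensU yW
  let w := cw gensU wW
  yW.all (fun i => Nat.blt i 4) && wW.all (fun i => Nat.blt i 4) && Nat.beq (cm y (cm y y)) idc &&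
    !Nat.beq y idc && (fxs y == [0]) && (l1L.all fun l => memB (ap y l) l1L) &&
    (q1L.all fun r => !memB r clU1 || q1L.any fun s => memB s clU1 && Nat.beq (cm y r) (cm s y)) &&
    commB w y && (q1L.any fun r => commB y r && !Nat.beq r idc) && l1L.any fun l => !memB (ap w l) l1L

theorem mover_ok : moverChk = true := by decide +kernel

theorem syl_words : (sylW.all fun w => w.all fun i => Nat.blt i 4) = true ∧
    s81L = sylW.map (cw gensU) ∧ s81L.length = 81 ∧ s81L.Nodup := by decide +kernel

theorem syl_closed : (s81L.all fun a => s81L.all fun b => memB (cm a b) s81L) = true := by decide +kernel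

theorem syl_fix : (s81L.all fun c => Nat.beq c idc || Nat.ble (fxs c).length 16) = true := by decide +kernel

theorem five_ok : (fiveW.all (fun i => Nat.blt i 4) &&
    let c := cw gensU fiveW
    let c2 := cm c c
    Nat.beq (cm c (cm c2 c2)) idc && [c, c2, cm c c2, cm c2 c2].all fun d => !Nat.beq d idc && (fxs d == [0])) =
      true := by decide +kernel

/-- The subgroups of order nine and what they normalise. -/
def nineChk : Bool :=
  (List.range 2).all fun k =>
    let E := eL k
    let B := b1L k
    Nat.beq E.length 9 && E.all (fun e => memB e s81L && Nat.beq (cm e (cm e e)) idc) &&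
      E.all (fun a => E.all fun b => commB a b && memB (cm a b) E) &&
      E.all (fun e => (bBas.getD k []).all fun g => memB (ap e g) B) && memB idc E &&
      Nat.ble 32 B.length && E.all (fun e => Nat.beq e idc || Nat.blt 1 (fxs e).length) && B.all (fun a => Nat.blt a 256 && B.all fun b => memB (a ^^^ b) B) && memB 0 B

theorem nine_ok : nineChk = true := by decide +kernel

theorem nine_nodup : ∀ k < 2, (eL k).Nodup ∧ (b1L k).Nodup := by decide +kernel

/-- A hyperplane contains a translate of a listed subgroup. -/
def hypChk : Bool :=
  (List.range 256).all fun m => Nat.beq m 0 ||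
    let p := hypW.getD m (0, [])
    Nat.blt p.1 2 && p.2.all (fun i => Nat.blt i 4) &&
      let c := cw gensU p.2
      (bBas.getD p.1 []).all fun g => Nat.beq (ap (funC m) (ap c g)) 0

theorem hyp_ok : hypChk = true := by decide +kernel

/-- Scalars, the commutant of the generators, and the outer maps. -/
def scalarChk : Bool :=
  (fxs omC == [0]) && Nat.beq (cm omC (cm omC omC)) idc &&
    !memB omC (ceL gensU 0) && !memB (cm omC omC) (ceL gensU 0) &&
    (outU.all fun k => Nat.beq (cm (oC cfgU k) omC) (cm (cm omC omC) (oC cfgU k))) &&
    vecs.all fun a => !(stbU.all fun w => Nat.beq (ap (cw gensU w) a) a) ||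
      let k := mkc fun i => exVal gensU [a, 0, 0] (exprU.getD i [])
      !((List.range 4).all fun i => commB k (gensU.getD i 0)) || memB k [0, idc, omC, cm omC omC]

theorem scalar_ok : scalarChk = true := by decide +kernel

end Cfsg.Lib.U62Core
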