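import Cfsg.Agent.Lib.U62Core.Mod

/-!
# Elementary groups of codes, and weak closure of the module in its normalizer
-/

set_option autoImplicit false
set_option linter.unusedSectionVars false
set_option linter.style.haveILetI false

namespace Cfsg.Lib.U62Core

open Cfsg.Lib.U62Type

theorem q1_closed : ((idc :: q1L).all fun a => (idc :: q1L).all fun b => memB (cm a b) (idc :: q1L)) = true := by
  decide +kernel

theorem l1_word : WordCode gensU (xC gensU 1) := ⟨xW 1, xW_lt 1 (by norm_num), rfl⟩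

theorem mem_l1 {v : ℕ} : v ∈ l1L ↔ v < 256 ∧ ap (xC gensU 1) v = v := by rw [lists_eq.2.2, mem_fxs]

theorem mem_j1 {c : ℕ} : c ∈ j1L ↔ c ∈ invL cfgU ∧ cm c (xC gensU 1) = cm (xC gensU 1) c := by
  rw [lists_eq.1, List.mem_filter, commB_iff]

theorem mem_q1 {c : ℕ} : c ∈ q1L ↔ c ∈ j1L ∧ onLine c = true := by rw [lists_eq.2.1, List.mem_filter]

/-- An elementary abelian group of inner codes. -/
structure CodeSet (S : Finset ℕ) : Prop where
  one : idc ∈ S
  mul : ∀ a ∈ S, ∀ b ∈ S, cm a b ∈ S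
  sq : ∀ a ∈ S, cm a a = idc
  comm : ∀ a ∈ S, ∀ b ∈ S, cm a b = cm b a
  inv : ∀ a ∈ S, a ≠ idc → a ∈ invL cfgU
  lt : ∀ a ∈ S, a < 2 ^ 64

namespace CodeSet

variable {S : Finset ℕ} (T : CodeSet S)
include T

theorem exists_thin (h : 3 ≤ S.card) : ∃ c ∈ S, c ∈ clU1 := by
  classical
  by_contra hno
  push Not at hno
  have h0 : ∀ c ∈ S, c ≠ idc → c ∈ clU0 := fun c hc hne =>
    (List.mem_append.1 (T.inv c hc hne)).resolve_right (hno c hc)
  obtain ⟨a, ha, hane⟩ := Finset.exists_mem_notMem_of_card_lt_card (t := S) (s := {idc})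
    (by rw [Finset.card_singleton]; omega)
  obtain ⟨b, hb, hbne⟩ := Finset.exists_mem_notMem_of_card_lt_card (t := S) (s := {idc, a})
    ((Finset.card_le_two).trans_lt (by omega))
  simp only [Finset.mem_singleton] at hane
  simp only [Finset.mem_insert, Finset.mem_singleton, not_or] at hbne
  have hab : cm a b ≠ idc := fun e => hbne.2 (by
    have := congrArg (cm a) e
    rwa [← cm_assoc, T.sq a ha, idc_cm (T.lt b hb), cm_idc (T.lt a ha)] at this)
  have h1 := root_pair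
  simp only [List.all_eq_true, Bool.or_eq_true, nbeq_iff, Bool.not_eq_true', Bool.eq_false_iff, Ne, commB_iff,
    memB_iff] at h1
  rcases h1 a (h0 a ha hane) b (h0 b hb hbne.1) with (e | e) | e
  exacts [hbne.2 e.symm, e (T.comm a ha b hb), e (h0 _ (T.mul a ha b hb) hab)]

variable (hx : xC gensU 1 ∈ S)
include hx

theorem mem_j {c : ℕ} (hc : c ∈ S) (hne : c ≠ idc) : c ∈ j1L := mem_j1.2 ⟨T.inv c hc hne, T.comm c hc _ hx⟩

/-- The facts on eight elements. -/
theorem eight {b c : ℕ} (hb : b ∈ S) (hb1 : b ∉ [idc, xC gensU 1]) (hc : c ∈ S)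
    (hc4 : c ∉ [idc, xC gensU 1, b, cm (xC gensU 1) b]) :
    (∃ r ∈ S, r ∈ clU0) ∧ ((onLine b = true ∧ onLine c = true) ∨ S.card ≤ 8) := by
  classical
  simp only [List.mem_cons, List.not_mem_nil, or_false, not_or] at hb1
  have hc1 : c ≠ idc := fun e => hc4 (e ▸ List.mem_cons_self)
  have h := eight_ok
  simp only [eightChk, List.all_eq_true, List.any_eq_true, Bool.or_eq_true, Bool.and_eq_true, nbeq_iff,
    Bool.not_eq_true', Bool.eq_false_iff, Ne, commB_iff, memB_iff] at h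
  rcases (h b (T.mem_j hx hb hb1.1)).resolve_left hb1.2 c (T.mem_j hx hc hc1) with (e | e) | ⟨⟨r, hr, hrm⟩, h8⟩
  · exact absurd (T.comm b hb c hc) e
  · exact absurd e hc4
  refine ⟨⟨r, ?_, hrm⟩, h8.imp id fun hd => ?_⟩
  · simp only [List.mem_cons, List.not_mem_nil, or_false] at hr
    rcases hr with rfl | rfl | rfl | rfl | rfl | rfl
    exacts [hb, hc, T.mul _ hx _ hb, T.mul _ hx _ hc, T.mul _ hb _ hc, T.mul _ hx _ (T.mul _ hb _ hc)]
  · refine le_trans (Finset.card_le_card (t := ([idc, xC gensU 1, b, cm (xC gensU 1) b] ++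
      [idc, xC gensU 1, b, cm (xC gensU 1) b].map fun g => cm g c).toFinset) fun d hd' => ?_)
      (List.toFinset_card_le _)
    rw [List.mem_toFinset]
    by_cases hd1 : d = idc
    · rw [hd1]; simp
    rcases hd d (T.mem_j hx hd' hd1) with (e | e) | e
    exacts [e, absurd (T.comm b hb d hd') e, absurd (T.comm c hc d hd') e]

theorem exists_root (h : 5 ≤ S.card) : ∃ r ∈ S, r ∈ clU0 := by
  classical
  obtain ⟨b, hb, hb1⟩ := Finset.exists_mem_notMem_of_card_lt_card (t := S) (s := [idc, xC gensU 1].toFinset)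
    ((List.toFinset_card_le _).trans_lt (by simp; omega))
  obtain ⟨c, hc, hc4⟩ := Finset.exists_mem_notMem_of_card_lt_card (t := S)
    (s := [idc, xC gensU 1, b, cm (xC gensU 1) b].toFinset) ((List.toFinset_card_le _).trans_lt (by simp; omega))
  exact (T.eight hx hb (by simpa using hb1) hc (by simpa using hc4)).1

/-- More than eight elements are the sixteen fixing the line. -/
theorem big (h : 8 < S.card) : S = (idc :: q1L).toFinset := by
  classical
  have hsub : ∀ s ∈ S, s ∈ (idc :: q1L).toFinset := by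
    intro b hb
    rw [List.mem_toFinset, List.mem_cons]
    by_cases hb0 : b = idc
    · exact Or.inl hb0
    refine Or.inr (mem_q1.2 ⟨T.mem_j hx hb hb0, ?_⟩)
    by_cases hbx : b = xC gensU 1
    · subst hbx
      simp only [onLine, List.all_eq_true, nbeq_iff]
      exact fun v hv => (mem_l1.1 hv).2
    obtain ⟨c, hc, hc4⟩ := Finset.exists_mem_notMem_of_card_lt_card (t := S)
      (s := [idc, xC gensU 1, b, cm (xC gensU 1) b].toFinset) ((List.toFinset_card_le _).trans_lt (by simp; omega))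
    exact (((T.eight hx hb (by simp [hb0, hbx]) hc (by simpa using hc4)).2).resolve_right (by omega)).1
  refine Finset.Subset.antisymm hsub fun q hq => ?_
  have hcl := q1_closed
  simp only [List.all_eq_true, memB_iff] at hcl
  have hcard : ((idc :: q1L).toFinset).card ≤ 16 := (List.toFinset_card_le _).trans (by simp [lists_len.1])
  by_contra hqS
  have hdis : Disjoint S (S.image fun a => cm q a) := by
    rw [Finset.disjoint_left]
    rintro _ hb hb'
    obtain ⟨a, ha, rfl⟩ := Finset.mem_image.1 hb'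
    apply hqS
    have := T.mul _ hb a ha
    rw [cm_assoc, T.sq a ha, cm_idc] at this
    · exact this
    · rw [List.mem_toFinset, List.mem_cons] at hq
      rcases hq with rfl | hq
      · exact idc_lt
      · have := lists_eq.2.1
        have hj := (mem_j1.1 (mem_q1.1 hq).1).1
        have hlt : ((invL cfgU).all fun e => Nat.blt e (2 ^ 64)) = true := by decide +kernel
        simp only [List.all_eq_true, Nat.blt_eq] at hlt
        exact hlt q hj
  have hinj : (S.image fun a => cm q a).card = S.card := by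
    refine Finset.card_image_of_injOn fun a ha b hb e => ?_
    have hq2 : cm q q = idc := by
      have hall : ((idc :: q1L).all fun c => Nat.beq (cm c c) idc) = true := by decide +kernel
      simp only [List.all_eq_true, nbeq_iff] at hall
      exact hall q (List.mem_toFinset.1 hq)
    have := congrArg (cm q) e
    rwa [← cm_assoc, ← cm_assoc, hq2, idc_cm (T.lt a ha), idc_cm (T.lt b hb)] at this
  have := Finset.card_le_card (s := S ∪ S.image fun a => cm q a) (t := (idc :: q1L).toFinset) (by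
    refine Finset.union_subset hsub fun x hxm => ?_
    obtain ⟨a, ha, rfl⟩ := Finset.mem_image.1 hxm
    exact List.mem_toFinset.2 (hcl q (List.mem_toFinset.1 hq) a (List.mem_toFinset.1 (hsub a ha))))
  rw [Finset.card_union_of_disjoint hdis, hinj] at this
  omega

end CodeSet

namespace UMod

variable {X : Type*} [Group X] [Finite X] {A I H : Subgroup X} {vc κ : X → ℕ} (M : UMod A I H vc κ)
include M

theorem codeSet {L : Subgroup X} (hL : L ≤ I) (hc : ∀ u ∈ L, ∀ w ∈ L, u * w = w * u) (hi : ∀ u ∈ L, u * u = 1) :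
    ∃ S : Finset ℕ, CodeSet S ∧ (∀ c, c ∈ S ↔ ∃ u ∈ L, κ u = c) ∧ Nat.card L = Nat.card ↥(A ⊓ L) * S.card := by
  obtain ⟨S, hS, hcard, h1, hmul⟩ := M.exists_codes (hL.trans M.I_le)
  refine ⟨S, ⟨h1, hmul, ?_, ?_, ?_, ?_⟩, hS, hcard⟩
  · intro a ha
    obtain ⟨u, hu, rfl⟩ := (hS a).1 ha
    exact M.κ_sq (M.I_le (hL hu)) (hi u hu)
  · intro a ha b hb
    obtain ⟨u, hu, rfl⟩ := (hS a).1 ha
    obtain ⟨w, hw, rfl⟩ := (hS b).1 hb
    exact M.κ_comm (M.I_le (hL hu)) (M.I_le (hL hw)) (hc u hu w hw)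
  · intro a ha hne
    obtain ⟨u, hu, rfl⟩ := (hS a).1 ha
    exact (M.cls u (hL hu) (M.κ_sq (M.I_le (hL hu)) (hi u hu)) hne).1
  · intro a ha
    obtain ⟨u, -, rfl⟩ := (hS a).1 ha
    exact M.κ_lt u

theorem fix_conj_le {g u : X} (hg : g ∈ H) :
    Nat.card ↥(A ⊓ Subgroup.centralizer ({u} : Set X)) ≤
      Nat.card ↥(A ⊓ Subgroup.centralizer ({g * u * g⁻¹} : Set X)) := by
  rw [← Subgroup.card_map_of_injective (K := A ⊓ Subgroup.centralizer ({u} : Set X)) (f := (MulAut.conj g).toMonoidHom)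
    (MulAut.conj g).injective]
  refine Subgroup.card_le_of_le ?_
  rintro _ ⟨a, ⟨ha, hau⟩, rfl⟩
  refine ⟨M.normal hg ha, Subgroup.mem_centralizer_singleton_iff.2 ?_⟩
  show g * a * g⁻¹ * (g * u * g⁻¹) = g * u * g⁻¹ * (g * a * g⁻¹)
  rw [show g * a * g⁻¹ * (g * u * g⁻¹) = g * (a * u) * g⁻¹ by group,
    show g * u * g⁻¹ * (g * a * g⁻¹) = g * (u * a) * g⁻¹ by group, Subgroup.mem_centralizer_singleton_iff.1 hau]

/-- An involution over a code of the second class can be moved over the listed one. -/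
theorem exists_conj_thin {u : X} (hu : u ∈ I) (h2 : u * u = 1) (hc : κ u ∈ clU1) :
    ∃ g ∈ I, κ (g * u * g⁻¹) = xC gensU 1 := by
  have hne : κ u ≠ idc := fun e => by
    have h : (memB idc clU1) = false := by decide +kernel
    rw [← e, memB_iff.2 hc] at h
    exact Bool.noConfusion h
  obtain ⟨-, k, hk, g, hg, he⟩ := M.cls u hu (M.κ_sq (M.I_le hu) h2) hne
  interval_cases k
  · exfalso
    have h1 := M.fix_conj_le (u := u) (M.I_le hg)
    have h2' := M.fix_conj_le (u := g * u * g⁻¹) (inv_mem (M.I_le hg))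
    rw [show g⁻¹ * (g * u * g⁻¹) * g⁻¹⁻¹ = u by group] at h2'
    rw [M.card_fix (M.I_le hu), M.card_fix (mul_mem (mul_mem (M.I_le hg) (M.I_le hu)) (inv_mem (M.I_le hg))), he]
      at h1 h2'
    have ht := thin_fix
    simp only [List.all_eq_true, nbeq_iff] at ht
    have h64 : (fxs (xC gensU 0)).length = 64 := by decide +kernel
    have := ht _ hc
    omega
  · exact ⟨g, hg, he⟩

theorem vc_line {u a : X} (hu : u ∈ H) (e : κ u = xC gensU 1) (ha : a ∈ A) (hc : u * a = a * u) : vc a ∈ l1L :=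
  mem_l1.2 ⟨M.vc_lt a, e ▸ (M.commute_iff hu ha).1 hc⟩

/-- A conjugate of `A` in the normalizer cannot lie over the sixteen. -/
theorem line_false {x : X} (hH' : A.map (MulAut.conj x).toMonoidHom ≤ I) {S : Finset ℕ}
    (hS : ∀ c, c ∈ S ↔ ∃ u ∈ A.map (MulAut.conj x).toMonoidHom, κ u = c) (hq : S = (idc :: q1L).toFinset)
    (hD : ∀ a ∈ A, vc a ∈ l1L → a ∈ A.map (MulAut.conj x).toMonoidHom)
    (hD' : ∀ a ∈ A, a ∈ A.map (MulAut.conj x).toMonoidHom → vc a ∈ l1L) : False := by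
  obtain ⟨A', hA'⟩ : ∃ A', A' = A.map (MulAut.conj x).toMonoidHom := ⟨_, rfl⟩
  rw [← hA'] at hH' hS hD hD'
  have hmem : ∀ u, u ∈ A' ↔ x⁻¹ * u * x ∈ A := fun u => by
    rw [hA', Subgroup.mem_map_equiv, MulAut.conj_symm_apply]
  have hA'H : A' ≤ H := hH'.trans M.I_le
  have hm := mover_ok
  simp only [moverChk, Bool.and_eq_true, List.all_eq_true, List.any_eq_true, Nat.blt_eq, nbeq_iff, beq_iff_eq,
    Bool.or_eq_true, Bool.not_eq_true', Bool.eq_false_iff, Ne, memB_iff, commB_iff] at hm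
  obtain ⟨⟨⟨⟨⟨⟨⟨⟨⟨hyw, hww⟩, hy3⟩, hy1⟩, hy0⟩, hyl⟩, hyq⟩, hwy⟩, r0, hr0, hr0c, hr0ne⟩, l, hl, hwl⟩ := hm
  obtain ⟨y, hyI, hye, hyo⟩ := M.lift_three ⟨yW, hyw, rfl⟩ hy3 hy1
  have hyH := M.I_le hyI
  have hsq : ∀ u ∈ A', u * u = 1 := fun u hu => by
    have := M.invol _ ((hmem u).1 hu)
    rw [show x⁻¹ * u * x * (x⁻¹ * u * x) = x⁻¹ * (u * u) * x by group] at this
    calc u * u = x * (x⁻¹ * (u * u) * x) * x⁻¹ := by group
      _ = 1 := by rw [this]; group
  -- involutions over the thin codes lie in the conjugate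
  have hkey : ∀ v ∈ H, v * v = 1 → κ v ∈ q1L → κ v ∈ clU1 → v ∈ A' := by
    intro v hv hv2 hvq hvc
    obtain ⟨u, hu, hue⟩ := (hS (κ v)).1 (by rw [hq]; simp [hvq])
    have ha := (M.κ_eq_iff (hA'H hu) hv).1 hue
    have hui : u⁻¹ = u := inv_eq_of_mul_eq_one_right (hsq u hu)
    have hcomm : u * (u⁻¹ * v) = u⁻¹ * v * u := by
      have e : (u⁻¹ * v)⁻¹ = u⁻¹ * v := M.inv_eq ha
      rw [mul_inv_rev, inv_inv, inv_eq_of_mul_eq_one_right hv2] at e
      rw [← e, mul_assoc v u u, hsq u hu, mul_one]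
      rw [e, mul_inv_cancel_left]
    have hfix := (M.commute_iff (hA'H hu) ha).1 hcomm
    have hl' := line_thin
    simp only [List.all_eq_true, Bool.or_eq_true, Bool.not_eq_true', Bool.eq_false_iff, Ne, memB_iff,
      beq_iff_eq] at hl'
    have : vc (u⁻¹ * v) ∈ l1L := by
      rw [← (hl' _ hvq).resolve_left (fun h => h hvc), ← hue]
      exact mem_fxs.2 ⟨M.vc_lt _, hfix⟩
    have := mul_mem hu (hD _ ha this)
    rwa [mul_inv_cancel_left] at this
  have hynorm : ∀ u ∈ A', y * u * y⁻¹ ∈ A' := by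
    intro u hu
    have hu' : κ u ∈ idc :: q1L := by
      have := (hS (κ u)).2 ⟨u, hu, rfl⟩
      rw [hq, List.mem_toFinset] at this
      exact this
    have hg := line_gen
    simp only [List.all_eq_true, List.any_eq_true, Bool.and_eq_true, memB_iff] at hg
    obtain ⟨r, hr, ⟨hr1, hr2⟩, hr3⟩ := hg _ hu'
    obtain ⟨u1, hu1, hu1e⟩ := (hS r).1 (by rw [hq]; simp [hr])
    have h2 : κ (u1 * u) = cm r (κ u) := by rw [M.κ_mul _ (hA'H hu1) _ (hA'H hu), hu1e]
    have step : ∀ w ∈ A', κ w ∈ q1L → κ w ∈ clU1 → y * w * y⁻¹ ∈ A' := by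
      intro w hw hwq hwc
      obtain ⟨s, hs, hsc, hse⟩ := (hyq _ hwq).resolve_left (fun h => h hwc)
      have e : κ (y * w * y⁻¹) = s := by
        have hslt : s < 2 ^ 64 := by
          obtain ⟨v, -, rfl⟩ := (hS s).1 (by rw [hq]; simp [hs])
          exact M.κ_lt v
        rw [M.κ_conj hyH (hA'H hw), hye, hse, cm_assoc, ← hye, (M.κ_inv hyH).1, cm_idc hslt]
      refine hkey _ (mul_mem (mul_mem hyH (hA'H hw)) (inv_mem hyH)) ?_ (e ▸ hs) (e ▸ hsc)
      rw [show y * w * y⁻¹ * (y * w * y⁻¹) = y * (w * w) * y⁻¹ by group, hsq w hw, mul_one, mul_inv_cancel]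
    have := mul_mem (step u1 hu1 (hu1e ▸ hr) (hu1e ▸ hr1)) (step _ (mul_mem hu1 hu) (h2 ▸ hr2) (h2 ▸ hr3))
    rwa [show y * u1 * y⁻¹ * (y * (u1 * u) * y⁻¹) = y * (u1 * u1 * u) * y⁻¹ by group, hsq u1 hu1, one_mul] at this
  have hxy : x⁻¹ * y * x ∈ H := by
    have hle : A.map (MulAut.conj (x⁻¹ * y * x)).toMonoidHom ≤ A := by
      rintro _ ⟨a, ha, rfl⟩
      have h1 := hynorm (x * a * x⁻¹) ((hmem _).2 (by rwa [show x⁻¹ * (x * a * x⁻¹) * x = a by group]))
      rw [hmem] at h1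
      show x⁻¹ * y * x * a * (x⁻¹ * y * x)⁻¹ ∈ A
      rwa [show x⁻¹ * y * x * a * (x⁻¹ * y * x)⁻¹ = x⁻¹ * (y * (x * a * x⁻¹) * y⁻¹) * x by group]
    rw [M.hH, Subgroup.mem_normalizer_iff_map_conj_eq]
    exact Subgroup.eq_of_le_of_card_ge hle (Subgroup.card_map_of_injective (MulAut.conj (x⁻¹ * y * x)).injective).ge
  have hxo : orderOf (x⁻¹ * y * x) = 3 := by
    rw [← hyo, ← MulEquiv.orderOf_eq (MulAut.conj x⁻¹) y]
    simp
  -- the image of the element fixes a vector: multiply over an orbit in the conjugate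
  have hfixv : ∃ a ∈ A, a ≠ 1 ∧ x⁻¹ * y * x * a = a * (x⁻¹ * y * x) := by
    obtain ⟨u, hu, hue⟩ := (hS r0).1 (by rw [hq]; simp [hr0])
    have hcA : ∀ p ∈ A', ∀ q ∈ A', Commute p q := fun p hp q hq' => by
      have h := (show Commute (x⁻¹ * p * x) (x⁻¹ * q * x) from M.comm _ ((hmem p).1 hp) _ ((hmem q).1 hq')).map
        (MulAut.conj x).toMonoidHom
      simpa [mul_assoc] using h
    have hu1 := hynorm u hu
    have hu2 := hynorm _ hu1
    have hy33 : y * (y * y) = 1 := by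
      have := pow_orderOf_eq_one y
      rwa [hyo, pow_succ', pow_two] at this
    set u1 := y * u * y⁻¹ with hu1d
    set u2 := y * u1 * y⁻¹ with hu2d
    have hu3 : y * u2 * y⁻¹ = u := by
      calc y * u2 * y⁻¹ = y * (y * y) * u * (y * (y * y))⁻¹ := by rw [hu2d, hu1d]; group
        _ = u := by rw [hy33]; group
    have hp : u * u1 * u2 ∈ A' := mul_mem (mul_mem hu hu1) hu2
    have hcom : y * (u * u1 * u2) = u * u1 * u2 * y := by
      refine mul_inv_eq_iff_eq_mul.1 ?_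
      calc y * (u * u1 * u2) * y⁻¹ = (y * u * y⁻¹) * (y * u1 * y⁻¹) * (y * u2 * y⁻¹) := by group
        _ = u1 * u2 * u := by rw [hu3, ← hu1d, ← hu2d]
        _ = u * u1 * u2 := by rw [mul_assoc u u1 u2, (hcA u hu _ (mul_mem hu1 hu2)).eq]
    have hκu : ∀ {v}, v ∈ A' → κ v = r0 → κ (y * v * y⁻¹) = r0 := fun {v} hv e => by
      rw [M.κ_conj hyH (hA'H hv), hye, e, hr0c, cm_assoc, ← hye, (M.κ_inv hyH).1, cm_idc (hue ▸ M.κ_lt u)]
    have hp1 : κ (u * u1 * u2) = r0 := by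
      have h1 : κ u1 = r0 := hκu hu hue
      have h2 : κ u2 = r0 := hκu hu1 h1
      have hrr : cm r0 r0 = idc := by
        have h := hsq u hu
        have h' := M.κ_mul u (hA'H hu) u (hA'H hu)
        rwa [h, M.κ_one, hue, eq_comm] at h'
      rw [M.κ_mul _ (mul_mem (hA'H hu) (hA'H hu1)) _ (hA'H hu2), M.κ_mul _ (hA'H hu) _ (hA'H hu1), hue, h1, h2,
        hrr, idc_cm (hue ▸ M.κ_lt u)]
    refine ⟨x⁻¹ * (u * u1 * u2) * x, (hmem _).1 hp, fun e => hr0ne ?_, ?_⟩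
    · rw [← hp1, show u * u1 * u2 = 1 by simpa [mul_assoc] using congrArg (fun g => x * g * x⁻¹) e, M.κ_one]
    · calc x⁻¹ * y * x * (x⁻¹ * (u * u1 * u2) * x) = x⁻¹ * (y * (u * u1 * u2)) * x := by group
        _ = x⁻¹ * (u * u1 * u2 * y) * x := by rw [hcom]
        _ = x⁻¹ * (u * u1 * u2) * x * (x⁻¹ * y * x) := by group
  -- a companion in the centraliser
  obtain ⟨h0, hh0, hh0e⟩ := M.lift _ ⟨wW, hww, rfl⟩
  have hh0H := M.I_le hh0
  have ha0 : y⁻¹ * (h0 * y * h0⁻¹) ∈ A := by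
    refine (M.κ_eq_iff hyH (mul_mem (mul_mem hh0H hyH) (inv_mem hh0H))).1 ?_
    rw [M.κ_conj hh0H hyH, hye, hh0e, hwy, cm_assoc, ← hh0e, (M.κ_inv hh0H).1, cm_idc (cw_lt _ _)]
  let ψ : A → A := fun b => ⟨y⁻¹ * b * y * b, mul_mem (by simpa using M.normal (inv_mem hyH) b.2) b.2⟩
  have hψ : Function.Injective ψ := by
    intro b b' e
    have e' : y⁻¹ * b * y * b = y⁻¹ * b' * y * b' := congrArg Subtype.val e
    have hb1 : y⁻¹ * b * y ∈ A := by simpa using M.normal (inv_mem hyH) b.2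
    have hb2 : y⁻¹ * b' * y ∈ A := by simpa using M.normal (inv_mem hyH) b'.2
    have hd : (b : X) * b' ∈ A := mul_mem b.2 b'.2
    have e2 : y⁻¹ * b' * y * (y⁻¹ * b * y) = b' * b := by
      calc y⁻¹ * b' * y * (y⁻¹ * b * y) = y⁻¹ * b' * y * (y⁻¹ * b * y * b) * (b : X)⁻¹ := by group
        _ = (y⁻¹ * b' * y * (y⁻¹ * b' * y)) * b' * (b : X)⁻¹ := by rw [e']; group
        _ = b' * b := by rw [M.invol _ hb2, one_mul, M.inv_eq b.2]
    have e3 : y * ((b' : X) * b) = b' * b * y := by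
      conv_lhs => rw [← e2]
      group
    have := mem_fxs.2 ⟨M.vc_lt _, (M.commute_iff hyH (mul_mem b'.2 b.2)).1 e3⟩
    rw [hye, hy0] at this
    have h1 := M.vc_zero _ (mul_mem b'.2 b.2) (by simpa using this)
    refine Subtype.ext ?_
    rw [← M.inv_eq b'.2]
    exact (inv_eq_of_mul_eq_one_right h1).symm
  obtain ⟨⟨b, hb⟩, hbe⟩ := (Finite.injective_iff_surjective.1 hψ) ⟨_, ha0⟩
  have hbe' : y⁻¹ * b * y * b = y⁻¹ * (h0 * y * h0⁻¹) := congrArg Subtype.val hbe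
  have hc1 : y⁻¹ * b * y ∈ A := by simpa using M.normal (inv_mem hyH) hb
  have hgy : b * h0 * y = y * (b * h0) := by
    refine mul_inv_eq_iff_eq_mul.1 ?_
    calc b * h0 * y * (b * h0)⁻¹ = b * (y * (y⁻¹ * (h0 * y * h0⁻¹))) * b⁻¹ := by group
      _ = y * (y⁻¹ * b * y * (y⁻¹ * b * y)) := by rw [← hbe']; group
      _ = y := by rw [M.invol _ hc1, mul_one]
  have hgH : x⁻¹ * (b * h0) * x ∈ H := by
    refine M.three _ hxy hxo hfixv (Subgroup.mem_centralizer_singleton_iff.2 ?_)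
    rw [show x⁻¹ * (b * h0) * x * (x⁻¹ * y * x) = x⁻¹ * (b * h0 * y) * x by group, hgy]
    group
  obtain ⟨a, ha, rfl⟩ := M.vc_surj (mem_l1.1 hl).1
  have hbh := mul_mem (M.A_le_H hb) hh0H
  have h1 : b * h0 * a * (b * h0)⁻¹ ∈ A' := by
    rw [hmem, show x⁻¹ * (b * h0 * a * (b * h0)⁻¹) * x =
      x⁻¹ * (b * h0) * x * (x⁻¹ * a * x) * (x⁻¹ * (b * h0) * x)⁻¹ by group]
    exact M.normal hgH ((hmem a).1 (hD a ha hl))
  have h2 := hD' _ (M.normal hbh ha) h1
  rw [M.act _ hbh a ha, M.κ_mul b (M.A_le_H hb) h0 hh0H, M.κ_A hb, idc_cm (M.κ_lt _), hh0e] at h2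
  exact hwl h2

theorem l1_finset : (∀ v ∈ l1L.toFinset, v < 256) ∧ (∀ v ∈ l1L.toFinset, ap omC v ∈ l1L.toFinset) ∧
    (∀ u ∈ l1L.toFinset, ∀ v ∈ l1L.toFinset, u ^^^ v ∈ l1L.toFinset) ∧ l1L.toFinset.card = 16 := by
  refine ⟨fun v hv => (mem_l1.1 (List.mem_toFinset.1 hv)).1, fun v hv => ?_, fun u hu v hv => ?_, ?_⟩
  · rw [List.mem_toFinset, mem_l1] at hv ⊢
    exact ⟨ap_lt _ _, omC_mem_fix (omega_comm l1_word) hv.2⟩
  · rw [List.mem_toFinset, mem_l1] at hu hv ⊢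
    exact ⟨xor_lt hu.1 hv.1, by rw [ap_xor, hu.2, hv.2]⟩
  · rw [List.toFinset_card_of_nodup (by rw [lists_eq.2.2]; exact List.Nodup.filter _ List.nodup_range), lists_len.2.1]

/-- An outer involution leaves at most four points of the line fixed. -/
theorem line_outer {S : Subgroup X} (hS : S ≤ A) {u c : X} (hu : u ∈ H) (e : κ u = xC gensU 1) (hc : c ∈ H)
    (hcI : c ∉ I) (hsu : ∀ a ∈ S, u * a = a * u) (hsc : ∀ a ∈ S, c * a = a * c) :
    Nat.card S ≤ 4 ∧ (4 ≤ Nat.card S → ∀ v ∈ l1L, ap (κ c) v = v → ∃ a ∈ S, vc a = v) := by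
  classical
  obtain ⟨hlt, hom, hadd, h16⟩ := M.l1_finset
  have h := outer_fix_sq (M.outer c hc hcI) l1L.toFinset hlt hom hadd
  rw [h16] at h
  obtain ⟨T, hT⟩ : ∃ T, T = l1L.toFinset.filter fun v => ap (κ c) v = v := ⟨_, rfl⟩
  rw [← hT] at h
  have h4 : T.card ≤ 4 := by by_contra hlt'; nlinarith
  have hmem : ∀ a : S, vc a ∈ T := fun a => by
    rw [hT, Finset.mem_filter, List.mem_toFinset]
    exact ⟨M.vc_line hu e (hS a.2) (hsu a a.2), (M.commute_iff hc (hS a.2)).1 (hsc a a.2)⟩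
  let f : S → T := fun a => ⟨vc a, hmem a⟩
  have hf : Function.Injective f := fun a b e' => Subtype.ext (M.vc_inj (hS a.2) (hS b.2) (congrArg Subtype.val e'))
  have hle := Nat.card_le_card_of_injective f hf
  rw [Nat.card_eq_finsetCard] at hle
  refine ⟨hle.trans h4, fun hge v hv hfix => ?_⟩
  obtain ⟨a, ha⟩ := (hf.bijective_of_nat_card_le (by rw [Nat.card_eq_finsetCard]; omega)).2
    ⟨v, by rw [hT, Finset.mem_filter, List.mem_toFinset]; exact ⟨hv, hfix⟩⟩
  exact ⟨a, a.2, congrArg Subtype.val ha⟩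

/-- Weak closure. -/
theorem A_eq_of_map_le {x : X} (hx : A.map (MulAut.conj x).toMonoidHom ≤ H) :
    A.map (MulAut.conj x).toMonoidHom = A := by
  classical
  by_contra hne
  -- elementary facts about such a conjugate
  have basic : ∀ x : X, A.map (MulAut.conj x).toMonoidHom ≤ H → A.map (MulAut.conj x).toMonoidHom ≠ A →
      ∃ A' : Subgroup X, A' = A.map (MulAut.conj x).toMonoidHom ∧ Nat.card A' = 256 ∧
      (∀ u ∈ A', ∀ w ∈ A', u * w = w * u) ∧ (∀ u ∈ A', u * u = 1) ∧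
      (∀ u ∈ A', A ⊓ A' ≤ A ⊓ Subgroup.centralizer ({u} : Set X)) ∧
      ∃ L S, L = A' ⊓ I ∧ CodeSet S ∧ (∀ c, c ∈ S ↔ ∃ u ∈ L, κ u = c) ∧
        Nat.card L = Nat.card ↥(A ⊓ A') * S.card ∧ Nat.card ↥(A ⊓ A') ≤ 64 ∧ 256 ≤ 2 * Nat.card L := by
    intro x hx hne
    obtain ⟨A', hA'⟩ : ∃ A', A' = A.map (MulAut.conj x).toMonoidHom := ⟨_, rfl⟩
    have hcard : Nat.card A' = 256 := by rw [hA', Subgroup.card_map_of_injective (MulAut.conj x).injective, M.cardA]
    have hcomm : ∀ u ∈ A', ∀ w ∈ A', u * w = w * u := by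
      rw [hA']
      rintro _ ⟨p, hp, rfl⟩ _ ⟨q, hq, rfl⟩
      rw [← map_mul, ← map_mul, M.comm p hp q hq]
    have hinv : ∀ u ∈ A', u * u = 1 := by
      rw [hA']
      rintro _ ⟨p, hp, rfl⟩
      rw [← map_mul, M.invol p hp, map_one]
    have hle : ∀ u ∈ A', A ⊓ A' ≤ A ⊓ Subgroup.centralizer ({u} : Set X) := fun u hu a ha =>
      ⟨ha.1, Subgroup.mem_centralizer_singleton_iff.2 (hcomm a ha.2 u hu)⟩
    obtain ⟨S, hS, hmem, hSc⟩ := M.codeSet (L := A' ⊓ I) inf_le_right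
      (fun u hu w hw => hcomm u hu.1 w hw.1) (fun u hu => hinv u hu.1)
    refine ⟨A', hA', hcard, hcomm, hinv, hle, A' ⊓ I, S, rfl, hS, hmem, ?_, ?_, ?_⟩
    · rw [hSc, show A ⊓ (A' ⊓ I) = A ⊓ A' from
        le_antisymm (inf_le_inf_left _ inf_le_left) fun a ha => ⟨ha.1, ha.2, M.A_le ha.1⟩]
    · obtain ⟨u, hu, huA⟩ : ∃ u ∈ A', u ∉ A := by
        by_contra hall
        push Not at hall
        exact hne (hA' ▸ Subgroup.eq_of_le_of_card_ge hall (by rw [hcard, M.cardA]))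
      have hA'H : A' ≤ H := hA' ▸ hx
      refine (Subgroup.card_le_of_le (hle u hu)).trans ?_
      rw [M.card_fix (hA'H hu)]
      exact M.invol_fix (hA'H hu) (hinv u hu) huA
    · rw [← hcard]; exact M.card_inner (hA' ▸ hx)
  obtain ⟨A', hA', hcard, hcomm, hinv, hle, L, S, hL, hS, hmem, hLc, h64, h128⟩ := basic x hx hne
  have hA'H : A' ≤ H := hA' ▸ hx
  -- a code of the second class
  obtain ⟨u, hu, huI, huc⟩ : ∃ u, u ∈ A' ∧ u ∈ I ∧ κ u ∈ clU1 := by
    have h3 : 3 ≤ S.card := by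
      by_cases hin : A' ≤ I
      · have : L = A' := by rw [hL]; exact inf_eq_left.2 hin
        rw [this, hcard] at hLc
        nlinarith
      · obtain ⟨c, hc, hcI⟩ := SetLike.not_le_iff_exists.1 hin
        have := (Subgroup.card_le_of_le (hle c hc)).trans_eq (M.card_fix (hA'H hc))
        have := M.outer_fix (hA'H hc) hcI
        nlinarith
    obtain ⟨c, hc, hc1⟩ := hS.exists_thin h3
    obtain ⟨u, hu, rfl⟩ := (hmem c).1 hc
    rw [hL] at hu
    exact ⟨u, hu.1, hu.2, hc1⟩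
  obtain ⟨g, hg, hge⟩ := M.exists_conj_thin huI (hinv u hu) huc
  have hgH := M.I_le hg
  -- move it to the listed one
  have hmap : A.map (MulAut.conj (g * x)).toMonoidHom = A'.map (MulAut.conj g).toMonoidHom := by
    rw [hA', Subgroup.map_map]
    congr 1
    ext z
    simp [mul_assoc]
  have hx' : A.map (MulAut.conj (g * x)).toMonoidHom ≤ H := by
    rw [hmap]
    rintro _ ⟨z, hz, rfl⟩
    exact mul_mem (mul_mem hgH (hA'H hz)) (inv_mem hgH)
  have hne' : A.map (MulAut.conj (g * x)).toMonoidHom ≠ A := by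
    rw [hmap]
    intro e
    apply hne
    rw [← hA']
    refine Subgroup.eq_of_le_of_card_ge (fun z hz => ?_) (by rw [hcard, M.cardA])
    have h1 : g * z * g⁻¹ ∈ A := e ▸ (⟨z, hz, rfl⟩ : g * z * g⁻¹ ∈ A'.map (MulAut.conj g).toMonoidHom)
    have := M.normal (inv_mem hgH) h1
    rwa [show g⁻¹ * (g * z * g⁻¹) * g⁻¹⁻¹ = z by group] at this
  obtain ⟨A₂, hA₂, hcard₂, hcomm₂, hinv₂, hle₂, L₂, S₂, hL₂, hS₂, hmem₂, hLc₂, -, h128₂⟩ := basic (g * x) hx' hne'
  have hu₂ : g * u * g⁻¹ ∈ A₂ := by rw [hA₂, hmap]; exact ⟨u, hu, rfl⟩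
  have hu₂I : g * u * g⁻¹ ∈ I := mul_mem (mul_mem hg huI) (inv_mem hg)
  have hx1 : xC gensU 1 ∈ S₂ := (hmem₂ _).2 ⟨_, by rw [hL₂]; exact ⟨hu₂, hu₂I⟩, hge⟩
  have hline : ∀ a ∈ A, a ∈ A₂ → vc a ∈ l1L := fun a ha ha' =>
    M.vc_line (M.I_le hu₂I) hge ha (hcomm₂ _ hu₂ a ha')
  have hD16 : Nat.card ↥(A ⊓ A₂) ≤ 16 :=
    (M.card_le inf_le_left fun a ha => hline a ha.1 ha.2).trans_eq lists_len.2.1
  have hS16 : ((idc :: q1L).toFinset).card ≤ 16 := (List.toFinset_card_le _).trans (by simp [lists_len.1])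
  by_cases hin : A₂ ≤ I
  · have hLA : L₂ = A₂ := by rw [hL₂]; exact inf_eq_left.2 hin
    rw [hLA, hcard₂] at hLc₂
    have hbig := hS₂.big hx1 (by nlinarith)
    have hD : Nat.card ↥(A ⊓ A₂) = 16 := by
      rw [hbig] at hLc₂
      nlinarith
    refine M.line_false (x := g * x) (hA₂ ▸ hin) (S := S₂) (fun c => by rw [hmem₂, hLA, hA₂]) hbig ?_
      fun a ha ha' => hline a ha (hA₂ ▸ ha')
    intro a ha hv
    rw [← hA₂]
    have heq : A ⊓ A₂ = A ⊓ Subgroup.centralizer ({g * u * g⁻¹} : Set X) :=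
      Subgroup.eq_of_le_of_card_ge (hle₂ _ hu₂) (by
        rw [M.card_fix (M.I_le hu₂I), hge, hD, ← lists_eq.2.2, lists_len.2.1])
    have hmem' : a ∈ A ⊓ Subgroup.centralizer ({g * u * g⁻¹} : Set X) :=
      (M.mem_fix (M.I_le hu₂I) ha).2 (by rw [hge, ← lists_eq.2.2]; exact hv)
    rw [← heq] at hmem'
    exact hmem'.2
  · obtain ⟨c, hc, hcI⟩ := SetLike.not_le_iff_exists.1 hin
    have h4 := (M.line_outer (S := A ⊓ A₂) inf_le_left (M.I_le hu₂I) hge (hA₂ ▸ hx' <| hA₂ ▸ hc) hcI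
      (fun a ha => hcomm₂ _ hu₂ a ha.2) (fun a ha => hcomm₂ _ hc a ha.2)).1
    have hbig := hS₂.big hx1 (by nlinarith)
    rw [hbig] at hLc₂
    nlinarith

theorem mem_of_map_le {x : X} (hx : A.map (MulAut.conj x).toMonoidHom ≤ H) : x ∈ H := by
  rw [M.hH, Subgroup.mem_normalizer_iff_map_conj_eq]
  exact M.A_eq_of_map_le hx

end UMod

end Cfsg.Lib.U62Core
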